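import Mathlib
import Cfsg.Agent.Dickson.PSLExist

/-!
Tools to exclude candidates for maximal subgroups of `PSL(2, F)`.
-/

set_option autoImplicit false

namespace CfsgLib.Dickson

open Matrix
open scoped MatrixGroups

section SylowTools

variable {G : Type*} [Group G] [Finite G]

/-- A subgroup of the order of a Sylow subgroup lies in a conjugate of every subgroup whose order is
divisible by it. -/
theorem not_isCoatom_sylow (r : ℕ) [Fact r.Prime] {k : ℕ} {M H : Subgroup G}
    (hk : ¬ r ^ (k + 1) ∣ Nat.card G) (hM : IsCoatom M) (hMc : Nat.card M = r ^ k)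
    (hH : r ^ k ∣ Nat.card H) (h1 : r ^ k < Nat.card H) (h2 : Nat.card H < Nat.card G) : False := by
  obtain ⟨R, hR⟩ := Sylow.exists_subgroup_card_pow_prime r hH
  set R' := R.map H.subtype
  have hR' : Nat.card R' = r ^ k := by
    rw [Subgroup.card_map_of_injective H.subtype_injective, hR]
  obtain ⟨P, hP⟩ := (IsPGroup.of_card hMc).exists_le_sylow
  obtain ⟨Q, hQ⟩ := (IsPGroup.of_card hR').exists_le_sylow
  have hfull : ∀ P : Sylow r G, Nat.card (P : Subgroup G) ≤ r ^ k := fun P => by
    obtain ⟨j, hj⟩ := IsPGroup.iff_card.mp P.2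
    rw [hj]
    refine Nat.pow_le_pow_right (Fact.out : r.Prime).pos (Nat.le_of_not_gt fun hjk => hk ?_)
    exact (pow_dvd_pow r hjk).trans (hj ▸ Subgroup.card_subgroup_dvd_card _)
  have eP : M = P := Subgroup.eq_of_le_of_card_ge hP (hMc.symm ▸ hfull P)
  have eQ : R' = Q := Subgroup.eq_of_le_of_card_ge hQ (hR'.symm ▸ hfull Q)
  obtain ⟨g, hg⟩ := MulAction.exists_smul_eq G Q P
  have hle : M ≤ H.map (MulAut.conj g).toMonoidHom := by
    rw [eP, ← hg]
    show (Q : Subgroup G).map (MulAut.conj g).toMonoidHom ≤ _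
    rw [← eQ]
    exact Subgroup.map_mono (Subgroup.map_subtype_le _)
  exact not_isCoatom_of_card hM hle (by rw [hMc, card_map_conj]; exact h1)
    (by rw [card_map_conj]; exact h2)

/-- A maximal subgroup of order `2r` normalising a Sylow `r`-subgroup of order `r` is excluded by a
bigger subgroup containing such a normaliser. -/
theorem not_isCoatom_two_mul (r : ℕ) [Fact r.Prime] {M H : Subgroup G} (hr2 : r ≠ 2)
    (hr : ¬ r ^ 2 ∣ Nat.card G) (hM : IsCoatom M) (hMc : Nat.card M = 2 * r)
    {a : G} (haM : a ∈ M) (hao : orderOf a = r)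
    (han : ∀ h ∈ M, h⁻¹ * a * h ∈ Subgroup.zpowers a)
    (hN : Subgroup.normalizer ((Subgroup.zpowers a : Subgroup G) : Set G) ≠ ⊤)
    {b t : G} (hb : b ∈ H) (ht : t ∈ H) (hbo : orderOf b = r) (hto : orderOf t = 2)
    (htb : t * b * t⁻¹ ∈ Subgroup.zpowers b)
    (h1 : 2 * r < Nat.card H) (h2 : Nat.card H < Nat.card G) : False := by
  set A := Subgroup.zpowers a
  have : ∀ c : G, orderOf c = r → IsPGroup r (Subgroup.zpowers c) := fun c hc =>
    IsPGroup.of_card (n := 1) (by rw [Nat.card_zpowers, hc, pow_one])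
  have hfull : ∀ (c : G), orderOf c = r → ∀ P : Sylow r G, Subgroup.zpowers c ≤ P →
      Subgroup.zpowers c = P := fun c hc P hP => by
    refine Subgroup.eq_of_le_of_card_ge hP ?_
    obtain ⟨j, hj⟩ := IsPGroup.iff_card.mp P.2
    rw [hj, Nat.card_zpowers, hc]
    refine le_trans (Nat.pow_le_pow_right (Fact.out : r.Prime).pos (?_ : j ≤ 1)) (pow_one r).le
    exact Nat.le_of_not_gt fun hj2 =>
      hr ((pow_dvd_pow r hj2).trans (hj ▸ Subgroup.card_subgroup_dvd_card _))
  obtain ⟨P, hP⟩ := (this a hao).exists_le_sylow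
  obtain ⟨Q, hQ⟩ := (this b hbo).exists_le_sylow
  obtain ⟨g, hg⟩ := MulAction.exists_smul_eq G Q P
  have hconj : (Subgroup.zpowers b).map (MulAut.conj g).toMonoidHom = A := by
    rw [hfull b hbo Q hQ, show A = Subgroup.zpowers a from rfl, hfull a hao P hP, ← hg]
    rfl
  -- `M` is the normaliser
  have hMN : M = Subgroup.normalizer (A : Set G) := by
    refine eq_of_isCoatom_le hM (fun h hh => ?_) hN
    rw [Subgroup.mem_normalizer_iff_map_conj_eq, MonoidHom.map_zpowers]
    refine Subgroup.eq_of_le_of_card_ge (Subgroup.zpowers_le.mpr ?_) ?_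
    · have := han h⁻¹ (M.inv_mem hh)
      rw [inv_inv] at this
      exact this
    · rw [Nat.card_zpowers, Nat.card_zpowers]
      exact le_of_eq (orderOf_injective (MulAut.conj h).toMonoidHom (MulAut.conj h).injective a).symm
  set H' := H.map (MulAut.conj g).toMonoidHom
  have hb' : g * b * g⁻¹ ∈ H' := ⟨b, hb, rfl⟩
  have ht' : g * t * g⁻¹ ∈ H' := ⟨t, ht, rfl⟩
  have hbA : g * b * g⁻¹ ∈ A := hconj ▸ ⟨b, Subgroup.mem_zpowers b, rfl⟩
  have htM : g * t * g⁻¹ ∈ M := by
    rw [hMN, Subgroup.mem_normalizer_iff_map_conj_eq, ← hconj, MonoidHom.map_zpowers,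
      MonoidHom.map_zpowers]
    refine Subgroup.eq_of_le_of_card_ge (Subgroup.zpowers_le.mpr ?_) ?_
    · obtain ⟨z, hz⟩ := Subgroup.mem_zpowers_iff.mp htb
      refine Subgroup.mem_zpowers_iff.mpr ⟨z, ?_⟩
      have hz' := congrArg (MulAut.conj g).toMonoidHom hz
      rw [map_zpow] at hz'
      rw [hz']
      show g * (t * b * t⁻¹) * g⁻¹ = g * t * g⁻¹ * (g * b * g⁻¹) * (g * t * g⁻¹)⁻¹
      group
    · rw [Nat.card_zpowers, Nat.card_zpowers]
      exact le_of_eq (orderOf_injective (MulAut.conj (g * t * g⁻¹)).toMonoidHom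
        (MulAut.conj (g * t * g⁻¹)).injective _).symm
  have hbM : g * b * g⁻¹ ∈ M := Subgroup.zpowers_le.mpr haM hbA
  -- `M` is generated by the two
  set S := M ⊓ H'
  have hdvd : 2 * r ∣ Nat.card S := by
    refine Nat.Coprime.mul_dvd_of_dvd_of_dvd
      (((Nat.prime_two.coprime_iff_not_dvd).mpr fun h =>
        hr2 ((Nat.prime_dvd_prime_iff_eq Nat.prime_two Fact.out).mp h).symm)) ?_ ?_
    · rw [← show orderOf (⟨g * t * g⁻¹, htM, ht'⟩ : S) = 2 by
        rw [← Subgroup.orderOf_coe]
        exact (orderOf_injective (MulAut.conj g).toMonoidHom (MulAut.conj g).injective t).trans hto]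
      exact orderOf_dvd_natCard _
    · rw [← show orderOf (⟨g * b * g⁻¹, hbM, hb'⟩ : S) = r by
        rw [← Subgroup.orderOf_coe]
        exact (orderOf_injective (MulAut.conj g).toMonoidHom (MulAut.conj g).injective b).trans hbo]
      exact orderOf_dvd_natCard _
  have hS : S = M := Subgroup.eq_of_le_of_card_ge inf_le_left
    (hMc.symm ▸ Nat.le_of_dvd Nat.card_pos hdvd)
  exact not_isCoatom_of_card hM (N := H') (hS.symm.le.trans inf_le_right) (by rw [hMc, card_map_conj]; exact h1)
    (by rw [card_map_conj]; exact h2)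

end SylowTools

section Overgroup

variable {F : Type*} [Field F] [Fintype F] [DecidableEq F]

/-- A maximal subgroup of `PSL(2, F)` has no proper overgroup inside `PGL(2, F)`, up to conjugation. -/
theorem not_isCoatom_of_conj_le {M : Subgroup (Matrix.ProjectiveSpecialLinearGroup (Fin 2) F)}
    (hM : IsCoatom M) {N : Subgroup PGL(2, F)} {k : PGL(2, F)}
    (hle : (M.map ProjectiveSpecialLinearGroup.toPGL).map (MulAut.conj k).toMonoidHom ≤ N)
    (hN : N ≤ (SpecialLinearGroup.toPGL (n := Fin 2) (R := F)).range)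
    (h1 : Nat.card M < Nat.card N)
    (h2 : Nat.card N < Nat.card (Matrix.ProjectiveSpecialLinearGroup (Fin 2) F)) : False := by
  set ι := ProjectiveSpecialLinearGroup.toPGL (n := Fin 2) (R := F)
  set N' := N.map (MulAut.conj k⁻¹).toMonoidHom
  have hN' : N' ≤ ι.range := by
    rw [show ι.range = _ from range_toPGL_psl]
    rintro _ ⟨g, hg, rfl⟩
    exact toPGL_range_normal.conj_mem _ (hN hg) _
  have hcard : Nat.card (N'.comap ι) = Nat.card N := by
    rw [← Subgroup.card_map_of_injective ProjectiveSpecialLinearGroup.toPGL_injective,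
      Subgroup.map_comap_eq_self hN', card_map_conj]
  exact not_isCoatom_of_card hM (N := N'.comap ι)
    (fun g hg => le_map_conj_inv hle ⟨g, hg, rfl⟩) (hcard.symm ▸ h1) (hcard.symm ▸ h2)

theorem card_map_toPGL (M : Subgroup (Matrix.ProjectiveSpecialLinearGroup (Fin 2) F)) :
    Nat.card (M.map ProjectiveSpecialLinearGroup.toPGL) = Nat.card M :=
  Subgroup.card_map_of_injective ProjectiveSpecialLinearGroup.toPGL_injective

omit [DecidableEq F] in
theorem psl_two_mul_card (hodd : Odd (Fintype.card F)) :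
    2 * Nat.card (Matrix.ProjectiveSpecialLinearGroup (Fin 2) F) =
      Fintype.card F * (Fintype.card F ^ 2 - 1) :=
  SL2.card_PSL_odd hodd

omit [Fintype F] [DecidableEq F] in
/-- The prime subfield. -/
theorem card_bot_subfield (p : ℕ) [Fact p.Prime] [CharP F p] :
    Nat.card (⊥ : Subfield F) = p := by
  have : (⊥ : Subfield F) = (ZMod.castHom (dvd_refl p) F).fieldRange := by
    refine le_antisymm bot_le ?_
    rintro _ ⟨a, rfl⟩
    rw [← ZMod.natCast_zmod_val a, map_natCast]
    exact natCast_mem _ _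
  rw [this, ← Nat.card_congr (ZMod.castHom (dvd_refl p) F).rangeRestrictFieldEquiv.toEquiv,
    Nat.card_zmod]

omit [DecidableEq F] in
/-- A root of `X² + X - 1` generates at most a quadratic extension of the prime field. -/
theorem exists_golden_subfield (p : ℕ) [Fact p.Prime] [CharP F p] {b : F} (hb : b ^ 2 + b - 1 = 0) :
    ∃ S : Subfield F, b ∈ S ∧ (Nat.card S = p ∨ (Nat.card S = p ^ 2 ∧ b ∉ (⊥ : Subfield F))) := by
  by_cases hbot : b ∈ (⊥ : Subfield F)
  · exact ⟨⊥, hbot, Or.inl (card_bot_subfield p)⟩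
  set φ := (iterateFrobenius F p 2) with hφ
  set S : Subfield F := φ.eqLocusField (RingHom.id F)
  have hfb : b ^ (p ^ 2) = b := by
    have h1 : (frobenius F p b) ^ 2 + frobenius F p b - 1 = 0 := by
      rw [← map_pow, ← map_add, ← map_one (frobenius F p), ← map_sub, hb, map_zero]
    have h2 : (frobenius F p b - b) * (frobenius F p b + b + 1) = 0 := by linear_combination h1 - hb
    rw [pow_two, pow_mul, ← frobenius_def, ← frobenius_def]
    rcases mul_eq_zero.mp h2 with h | h
    · rw [sub_eq_zero.mp h, sub_eq_zero.mp h]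
    · have e : frobenius F p b = -1 - b := by linear_combination h
      rw [e, map_sub, map_neg, map_one, e]
      ring
  have hbS : b ∈ S := by
    show φ b = b
    rw [hφ, iterateFrobenius_def, hfb]
  refine ⟨S, hbS, Or.inr ⟨?_, hbot⟩⟩
  classical
  obtain ⟨j, hj0, hj⟩ : ∃ j, 0 < j ∧ Nat.card S = p ^ j := by
    have : CharP S p := S.subtype.charP Subtype.val_injective p
    let _ : Fintype S := Fintype.ofFinite S
    obtain ⟨j, -, hj⟩ := FiniteField.card S p
    exact ⟨j, j.pos, by rw [Nat.card_eq_fintype_card, hj]⟩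
  have hle : Nat.card S ≤ p ^ 2 := by
    have hp2 : 1 < p ^ 2 := Nat.one_lt_pow two_ne_zero (Fact.out : p.Prime).one_lt
    have hsub : (Finset.univ.filter fun a : F => a ∈ S) ⊆
        (Polynomial.X ^ (p ^ 2) - Polynomial.X : Polynomial F).roots.toFinset := by
      intro a ha
      rw [Multiset.mem_toFinset, Polynomial.mem_roots (FiniteField.X_pow_card_sub_X_ne_zero F hp2)]
      have : φ a = a := (Finset.mem_filter.mp ha).2
      rw [hφ, iterateFrobenius_def] at this
      simp [this]
    rw [Nat.card_eq_fintype_card, Fintype.card_subtype]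
    refine ((Finset.card_le_card hsub).trans (Multiset.toFinset_card_le _)).trans
      ((Polynomial.card_roots' _).trans ?_)
    rw [FiniteField.X_pow_card_sub_X_natDegree_eq F hp2]
  have hjle : j ≤ 2 := (Nat.pow_le_pow_iff_right (Fact.out : p.Prime).one_lt).mp (hj ▸ hle)
  interval_cases j
  · exfalso
    rw [pow_one] at hj
    have hbotS : (⊥ : Subfield F) = S := SetLike.coe_injective
      (Set.eq_of_subset_of_ncard_le (show ((⊥ : Subfield F) : Set F) ⊆ S from
          fun a ha => (bot_le : ⊥ ≤ S) ha) (by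
        rw [← Nat.card_coe_set_eq, ← Nat.card_coe_set_eq]
        exact le_of_eq (hj.trans (card_bot_subfield p).symm)) (Set.toFinite _))
    exact hbot (hbotS ▸ hbS)
  · exact hj

end Overgroup

end CfsgLib.Dickson
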