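import Mathlib
import Cfsg.Agent.Dickson.MaxPSL
import Cfsg.Agent.S5892
import Cfsg.Agent.S5893

/-!
Existence of maximal subgroups of `PSL(2, F)`: point stabilisers and stabilisers of pairs.
-/

set_option autoImplicit false

namespace CfsgLib.Dickson

open Matrix MulAction
open scoped MatrixGroups

section Stab

variable {F : Type*} [Field F] [DecidableEq F]

/-- Commutators in the stabiliser of a point are unipotent. -/
theorem stab_commutator_pow (p : ℕ) [Fact p.Prime] [CharP F p] {g h : PGL(2, F)} {z : OnePoint F}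
    (hg : g • z = z) (hh : h • z = z) : (g * h * g⁻¹ * h⁻¹) ^ p = 1 := by
  suffices key : ∀ g h : PGL(2, F), g • (OnePoint.infty : OnePoint F) = OnePoint.infty →
      h • (OnePoint.infty : OnePoint F) = OnePoint.infty → (g * h * g⁻¹ * h⁻¹) ^ p = 1 by
    obtain ⟨k, hk⟩ := exists_smul_infty z
    set K := ProjGenLinGroup.mk k
    have hK : K • (OnePoint.infty : OnePoint F) = z := by rw [mk_smul]; exact hk
    have hK' : K⁻¹ • z = (OnePoint.infty : OnePoint F) := by rw [← hK, inv_smul_smul]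
    have := key (K⁻¹ * g * K) (K⁻¹ * h * K) (by rw [mul_smul, mul_smul, hK, hg, hK'])
      (by rw [mul_smul, mul_smul, hK, hh, hK'])
    rw [show K⁻¹ * g * K * (K⁻¹ * h * K) * (K⁻¹ * g * K)⁻¹ * (K⁻¹ * h * K)⁻¹ =
      K⁻¹ * (g * h * g⁻¹ * h⁻¹) * K⁻¹⁻¹ by group, conj_pow] at this
    exact conj_eq_one_iff.mp this
  intro g h hg hh
  obtain ⟨a, rfl⟩ := ProjGenLinGroup.mk_surjective g
  obtain ⟨b, rfl⟩ := ProjGenLinGroup.mk_surjective h
  rw [mk_smul] at hg hh
  have ha := OnePoint.smul_infty_eq_self_iff.mp hg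
  have hb := OnePoint.smul_infty_eq_self_iff.mp hh
  set c := a * b * a⁻¹ * b⁻¹ with hc
  have hcs : c • (OnePoint.infty : OnePoint F) = OnePoint.infty := by
    simp only [hc, mul_smul, inv_smul_eq_iff.mpr hh.symm, inv_smul_eq_iff.mpr hg.symm, hh, hg]
  have hc0 := OnePoint.smul_infty_eq_self_iff.mp hcs
  have e : (c * (b * a)).val = (a * b).val := by rw [hc]; congr 1; group
  have e0 := congrFun (congrFun e 0) 0
  have e1 := congrFun (congrFun e 1) 1
  simp only [Units.val_mul, Matrix.mul_apply, Fin.sum_univ_two, ha, hb, hc0, mul_zero, zero_mul,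
    add_zero, zero_add] at e0 e1
  obtain ⟨a0, a1⟩ := diag_ne_zero ha
  obtain ⟨b0, b1⟩ := diag_ne_zero hb
  rw [← map_inv, ← map_inv, ← map_mul, ← map_mul, ← map_mul]
  refine (pow_char_eq_one_iff (p := p) hc0).mpr ?_
  have c0 : c 0 0 = 1 := mul_right_cancel₀ (mul_ne_zero b0 a0) (by linear_combination e0)
  have c1 : c 1 1 = 1 := mul_right_cancel₀ (mul_ne_zero b1 a1) (by linear_combination e1)
  exact c0.trans c1.symm

/-- A dihedral group of order prime to `p`, other than the four group, fixes no point. -/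
theorem not_dihedral_fixed (p : ℕ) [Fact p.Prime] [CharP F p] {n : ℕ} (hn : 3 ≤ n) (hp : ¬ p ∣ n)
    (φ : DihedralGroup n →* PGL(2, F)) (hφ : Function.Injective φ) (z : OnePoint F) :
    ¬ ∀ d, φ d • z = z := by
  intro hz
  have h := stab_commutator_pow p (hz (DihedralGroup.sr 0)) (hz (DihedralGroup.r 1))
  rw [← map_inv, ← map_inv, ← map_mul, ← map_mul, ← map_mul, ← map_pow, ← map_one φ] at h
  have h' : (DihedralGroup.r (-2 : ZMod n)) ^ p = 1 := by
    have := hφ h
    simp only [DihedralGroup.inv_sr, DihedralGroup.inv_r, DihedralGroup.sr_mul_r,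
      DihedralGroup.sr_mul_sr, DihedralGroup.r_mul_r] at this
    convert this using 3
    ring
  rw [DihedralGroup.r_pow, DihedralGroup.one_def] at h'
  have h0 : ((2 * p : ℕ) : ZMod n) = 0 := by
    push_cast
    linear_combination -(DihedralGroup.r.inj h')
  have hd : n ∣ 2 * p := (ZMod.natCast_eq_zero_iff _ n).mp h0
  have hcop : n.Coprime p := ((Nat.Prime.coprime_iff_not_dvd Fact.out).mpr hp).symm
  have := Nat.le_of_dvd (by norm_num) (hcop.dvd_of_dvd_mul_right hd)
  omega

/-- An alternating group of degree `4` fixes no point if `p` is odd. -/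
theorem not_alt_four_fixed (p : ℕ) [Fact p.Prime] [CharP F p] (hp : p ≠ 2)
    (φ : alternatingGroup (Fin 4) →* PGL(2, F)) (hφ : Function.Injective φ) (z : OnePoint F) :
    ¬ ∀ d, φ d • z = z := by
  intro hz
  obtain ⟨a, b, hab, hab2⟩ : ∃ a b : alternatingGroup (Fin 4),
      a * b * a⁻¹ * b⁻¹ ≠ 1 ∧ (a * b * a⁻¹ * b⁻¹) ^ 2 = 1 := by decide +kernel
  have h := stab_commutator_pow p (hz a) (hz b)
  rw [← map_inv, ← map_inv, ← map_mul, ← map_mul, ← map_mul, ← map_pow, ← map_one φ] at h
  have hd : orderOf (a * b * a⁻¹ * b⁻¹) ∣ Nat.gcd p 2 :=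
    Nat.dvd_gcd (orderOf_dvd_of_pow_eq_one (hφ h)) (orderOf_dvd_of_pow_eq_one hab2)
  rw [(Nat.coprime_primes Fact.out Nat.prime_two).mpr hp, Nat.dvd_one, orderOf_eq_one_iff] at hd
  exact hab hd

/-- Dihedral subgroups of order prime to the characteristic are small. -/
theorem dihedral_le_card {K : Type*} [Field K] [Fintype K] (p : ℕ) [Fact p.Prime] [CharP K p]
    {n : ℕ} (hn : 2 ≤ n) (hp : ¬ p ∣ n) (φ : DihedralGroup n →* PGL(2, K))
    (hφ : Function.Injective φ) : n ≤ Fintype.card K + 1 := by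
  classical
  obtain ⟨x, y, hxy, hle⟩ := le_pairN_of_cyclic_or_dihedral p (H := φ.range)
    (Or.inr ⟨n, hn, hp, ⟨(MonoidHom.ofInjective hφ).symm⟩⟩)
  have h1 := Subgroup.card_le_of_le hle
  rw [← Nat.card_congr (MonoidHom.ofInjective hφ).toEquiv, DihedralGroup.nat_card] at h1
  rcases card_pairN hxy with h | h <;> omega

end Stab

theorem charP_of_card_eq_pow {F K : Type*} [Field F] [Fintype F] [Field K] [Fintype K] (p : ℕ)
    [Fact p.Prime] [CharP F p] {r : ℕ} (h : Fintype.card F = Fintype.card K ^ r) : CharP K p := by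
  obtain ⟨l, hl⟩ := CharP.exists K
  obtain ⟨a, hlp, ha⟩ := FiniteField.card K l
  obtain ⟨b, hpp, hb⟩ := FiniteField.card F p
  rw [ha, hb, ← pow_mul] at h
  have : p ∣ l := hpp.dvd_of_dvd_pow (h ▸ dvd_pow_self p b.pos.ne')
  rwa [(Nat.prime_dvd_prime_iff_eq hpp hlp).mp this]

theorem alt_five_pow (g : alternatingGroup (Fin 5)) : g ^ 2 = 1 ∨ g ^ 3 = 1 ∨ g ^ 5 = 1 := by
  revert g; decide +kernel

theorem perm_four_pow (g : Equiv.Perm (Fin 4)) : g ^ 3 = 1 ∨ g ^ 4 = 1 := by
  revert g; decide +kernel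

theorem alt_four_pow (g : alternatingGroup (Fin 4)) : g ^ 2 = 1 ∨ g ^ 3 = 1 := by
  revert g; decide +kernel

theorem alt_four_no_s3 : ∀ b t : alternatingGroup (Fin 4),
    b ^ 3 = 1 → t * t = 1 → t ≠ 1 → t * b * t⁻¹ = b⁻¹ → b = 1 := by
  decide +kernel

theorem orderOf_r_map {G : Type*} [Group G] {n : ℕ} (φ : DihedralGroup n →* G)
    (hφ : Function.Injective φ) : orderOf (φ (DihedralGroup.r 1)) = n := by
  rw [orderOf_injective φ hφ, DihedralGroup.orderOf_r_one]

section Exist

variable {F : Type*} [Field F] [Fintype F] [DecidableEq F] [DecidableEq (AlgebraicClosure F)]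

/-- In even characteristic, a subgroup of order `q (q - 1)` fixes a point. -/
theorem le_pslStab_of_card (he : Even (Fintype.card F)) (h4 : 4 ≤ Fintype.card F)
    {M : Subgroup (Matrix.ProjectiveSpecialLinearGroup (Fin 2) F)}
    (h : Nat.card M = Fintype.card F * (Fintype.card F - 1)) : ∃ z, M ≤ pslStab z := by
  obtain ⟨p, _⟩ := CharP.exists F
  have : Fact p.Prime := ⟨CharP.char_is_prime F p⟩
  have hp : p = 2 := by
    by_contra hp
    exact Nat.not_even_iff_odd.mpr ((odd_card_iff p).mpr hp) he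
  have hd : Nat.gcd 2 (Fintype.card F - 1) = 1 := by
    rcases gcd_two_pred (F := F) with ⟨-, hd⟩ | ⟨ho, -⟩
    · exact hd
    · exact absurd he (Nat.not_even_iff_odd.mpr ho)
  have hbig : 3 * Fintype.card F ≤ Nat.card M := by
    rw [h, mul_comm]; exact Nat.mul_le_mul_left _ (by omega)
  rcases classify_psl p M with hz | ⟨-, -, hc⟩ | ⟨n, -, -, ⟨i⟩, hn⟩ | ⟨h', -⟩ | ⟨h', -⟩ | ⟨h', -⟩ |
    ⟨L, m, hm, ⟨⟨i⟩, -⟩ | ⟨h', -⟩⟩
  · exact hz
  · rw [hd, Nat.div_one, Nat.div_one] at hc
    rcases hc with hc | hc <;> have := Nat.le_of_dvd (by omega) hc <;> omega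
  · rw [Nat.card_congr i.toEquiv, DihedralGroup.nat_card] at hbig
    rw [hd, Nat.div_one, Nat.div_one] at hn
    rcases hn with hn | hn <;> have := Nat.le_of_dvd (by omega) hn <;> omega
  · exact absurd (hp ▸ (by norm_num : 2 ∣ 12)) h'
  · exact absurd (hp ▸ (by norm_num : 2 ∣ 24)) h'
  · rcases h' with h' | h'
    · exact absurd (hp ▸ (by norm_num : 2 ∣ 60)) h'
    · omega
  · exfalso
    have : Fintype L := Fintype.ofFinite L
    rw [Nat.card_congr i.toEquiv, card_pgl2] at h
    rw [Nat.card_eq_fintype_card] at hm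
    set Q := Fintype.card L
    set q := Fintype.card F
    have hQ : 2 ≤ Q := Fintype.one_lt_card
    rcases Nat.lt_trichotomy m 1 with hm1 | hm1 | hm1
    · rw [show m = 0 by omega, pow_zero] at hm; omega
    · rw [hm1, pow_one] at hm
      rw [← hm] at h
      have : Q * (Q - 1) * 2 ≤ (Q + 1) * (Q * (Q - 1)) := by
        rw [mul_comm (Q + 1)]; exact Nat.mul_le_mul_left _ (by omega)
      have : 0 < Q * (Q - 1) := Nat.mul_pos (by omega) (by omega)
      omega
    · have h2 : Q ^ 2 ≤ q := hm ▸ Nat.pow_le_pow_right (by omega) hm1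
      have e : (Q + 1) * (Q * (Q - 1)) = Q * (Q ^ 2 - 1) := by
        rw [pow_two, show 1 = 1 * 1 from rfl, Nat.mul_self_sub_mul_self_eq]; ring
      have hlt : Q < q := lt_of_lt_of_le (by nlinarith) h2
      have : Q * (Q ^ 2 - 1) ≤ Q * (q - 1) := Nat.mul_le_mul_left _ (by omega)
      have : Q * (q - 1) < q * (q - 1) := Nat.mul_lt_mul_of_pos_right hlt (by omega)
      omega
  · exact absurd hp h'

/-- The stabiliser of a quadratic pair is maximal. -/
theorem isCoatom_pslPairN_quad (h4 : 4 ≤ Fintype.card F) (h7 : Fintype.card F ≠ 7)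
    (h9 : Fintype.card F ≠ 9) {x y : OnePoint (AlgebraicClosure F)}
    (i : pslPairN x y ≃*
      DihedralGroup ((Fintype.card F + 1) / Nat.gcd 2 (Fintype.card F - 1))) :
    IsCoatom (pslPairN x y) := by
  have hH := Nat.card_congr i.toEquiv
  rw [DihedralGroup.nat_card] at hH
  obtain ⟨p, _⟩ := CharP.exists F
  have : Fact p.Prime := ⟨CharP.char_is_prime F p⟩
  rcases eq_top_or_exists_le_coatom (pslPairN x y) with htop | ⟨M, hM, hle⟩
  · rw [htop, Subgroup.card_top] at hH
    have hc := card_psl (F := F)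
    rw [hH] at hc
    set q := Fintype.card F
    have h2 : 15 ≤ q ^ 2 - 1 := by have := Nat.pow_le_pow_left h4 2; omega
    have h3 : q * 15 ≤ q * (q ^ 2 - 1) := Nat.mul_le_mul_left _ h2
    rcases gcd_two_pred (F := F) with ⟨-, hd⟩ | ⟨-, hd⟩ <;> rw [hd] at hc <;> omega
  suffices h : Nat.card M ≤ Nat.card (pslPairN x y) by
    rwa [Subgroup.eq_of_le_of_card_ge hle h]
  let φ : DihedralGroup ((Fintype.card F + 1) / Nat.gcd 2 (Fintype.card F - 1)) →* M :=
    (Subgroup.inclusion hle).comp i.symm.toMonoidHom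
  have hφ : Function.Injective φ := (Subgroup.inclusion_injective hle).comp i.symm.injective
  have hdiv : Nat.card (pslPairN x y) ∣ Nat.card M := Subgroup.card_dvd_of_le hle
  rcases Nat.even_or_odd (Fintype.card F) with he | ho
  · have hd : Nat.gcd 2 (Fintype.card F - 1) = 1 := by
      rcases gcd_two_pred (F := F) with ⟨-, hd⟩ | ⟨ho, -⟩
      · exact hd
      · exact absurd he (Nat.not_even_iff_odd.mpr ho)
    rw [hd, Nat.div_one] at hH
    rw [hH] at hdiv ⊢
    rcases _root_.Cfsg.Agent.S5893.result he h4 M hM with h | ⟨⟨j⟩⟩ | ⟨⟨j⟩⟩ | ⟨K, _, _, r, hr, hK2, hK, ⟨j⟩⟩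
    · -- `q + 1` is prime to `q (q - 1)`
      exfalso
      rw [h] at hdiv
      have hco : (Fintype.card F + 1).Coprime (Fintype.card F) := by simp
      have h1 := hco.dvd_of_dvd_mul_left (dvd_of_mul_left_dvd hdiv)
      have := Nat.le_of_dvd (by omega) h1
      omega
    · exfalso
      have h := Nat.card_congr j.toEquiv
      rw [DihedralGroup.nat_card] at h
      rw [h] at hdiv
      have := Nat.le_of_dvd (by omega) hdiv
      omega
    · rw [Nat.card_congr j.toEquiv, DihedralGroup.nat_card]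
    · exfalso
      have hKe : Even (Fintype.card K) := (Nat.even_pow.mp (hK ▸ he)).1
      classical
      have hc := card_psl (F := K)
      rw [show Nat.gcd 2 (Fintype.card K - 1) = 1 by
        rcases gcd_two_pred (F := K) with ⟨-, hd⟩ | ⟨ho, -⟩
        · exact hd
        · exact absurd hKe (Nat.not_even_iff_odd.mpr ho), mul_one, ← Nat.card_congr j.toEquiv] at hc
      rw [hc, hK] at hdiv
      set Q := Fintype.card K
      have hQ : 2 ≤ Q := Fintype.one_lt_card
      by_cases hr2 : r = 2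
      · subst hr2
        have hco : (Q ^ 2 + 1).Coprime Q := by rw [pow_two]; simp
        have h1 := hco.dvd_of_dvd_mul_left (dvd_of_mul_left_dvd hdiv)
        have h4' := Nat.pow_le_pow_left hQ 2
        have := Nat.le_of_dvd (by omega) h1
        omega
      · have h3 : Q ^ 3 ≤ Q ^ r := Nat.pow_le_pow_right (by omega) (by have := hr.two_le; omega)
        have h4' := Nat.pow_le_pow_left hQ 2
        have hle' : Q * (Q ^ 2 - 1) ≤ Q ^ 3 :=
          calc Q * (Q ^ 2 - 1) ≤ Q * Q ^ 2 := Nat.mul_le_mul_left _ (Nat.sub_le _ _)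
            _ = Q ^ 3 := by ring
        have := Nat.le_of_dvd (Nat.mul_pos (by omega) (by omega)) hdiv
        omega
  · have hd : Nat.gcd 2 (Fintype.card F - 1) = 2 := by
      rcases gcd_two_pred (F := F) with ⟨he, -⟩ | ⟨-, hd⟩
      · exact absurd ho (Nat.not_odd_iff_even.mpr he)
      · exact hd
    have hF2 := Nat.odd_iff.mp ho
    have h5 : 5 ≤ Fintype.card F := by omega
    have hn : (Fintype.card F + 1) / Nat.gcd 2 (Fintype.card F - 1) =
        (Fintype.card F + 1) / 2 := by rw [hd]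
    rw [hn, show 2 * ((Fintype.card F + 1) / 2) = Fintype.card F + 1 by omega] at hH
    rw [hH] at hdiv ⊢
    have hord := (orderOf_r_map φ hφ).trans hn
    rcases _root_.Cfsg.Agent.S5892.result p ho h5 M hM with h | ⟨-, k, hk, ⟨j⟩⟩ | ⟨-, -, k, hk, ⟨j⟩⟩ |
      ⟨K, _, _, hK, ⟨j⟩⟩ | ⟨K, _, _, r, hr, hro, hK, ⟨j⟩⟩ | ⟨h10, -, ⟨j⟩⟩ | ⟨hqp, -, -, ⟨j⟩⟩ | ⟨hqp, h8, ⟨j⟩⟩
    · exfalso
      have hdiv' : Fintype.card F + 1 ∣ Fintype.card F * (Fintype.card F - 1) :=
        h ▸ hdiv.mul_left 2
      have hco : (Fintype.card F + 1).Coprime (Fintype.card F) := by simp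
      have := Nat.le_of_dvd (by omega) (hco.dvd_of_dvd_mul_left hdiv')
      omega
    · exfalso
      rw [Nat.card_congr j.toEquiv, DihedralGroup.nat_card] at hdiv
      have := Nat.le_of_dvd (by omega) hdiv
      omega
    · rw [Nat.card_congr j.toEquiv, DihedralGroup.nat_card]; omega
    · exfalso
      classical
      rw [Nat.card_congr j.toEquiv, card_pgl2, hK] at hdiv
      set Q := Fintype.card K
      have hQ : 2 ≤ Q := Fintype.one_lt_card
      have he : (Q + 1) * (Q * (Q - 1)) = Q * (Q ^ 2 - 1) := by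
        rw [pow_two, show 1 = 1 * 1 from rfl, Nat.mul_self_sub_mul_self_eq]; ring
      rw [he] at hdiv
      have hco : (Q ^ 2 + 1).Coprime Q := by rw [pow_two]; simp
      have h4' := Nat.pow_le_pow_left hQ 2
      have := Nat.le_of_dvd (by omega) (hco.dvd_of_dvd_mul_left hdiv)
      omega
    · exfalso
      have hc := psl_two_mul_card (F := K) ((Nat.odd_pow_iff hr.ne_zero).mp (hK ▸ ho))
      rw [← Nat.card_congr j.toEquiv] at hc
      rw [hK] at hdiv
      set Q := Fintype.card K
      have hQ : 2 ≤ Q := Fintype.one_lt_card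
      have h3 : Q ^ 3 ≤ Q ^ r :=
        Nat.pow_le_pow_right (by omega) (by obtain ⟨t, rfl⟩ := hro; have := hr.two_le; omega)
      have hle' : Q * (Q ^ 2 - 1) ≤ Q ^ 3 :=
        calc Q * (Q ^ 2 - 1) ≤ Q * Q ^ 2 := Nat.mul_le_mul_left _ (Nat.sub_le _ _)
          _ = Q ^ 3 := by ring
      have := Nat.le_of_dvd Nat.card_pos hdiv
      omega
    · exfalso
      have := alt_five_pow (j (φ (DihedralGroup.r 1)))
      rw [← orderOf_dvd_iff_pow_eq_one, ← orderOf_dvd_iff_pow_eq_one, ← orderOf_dvd_iff_pow_eq_one,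
        MulEquiv.orderOf_eq, hord] at this
      rcases this with h | h | h <;> have := Nat.le_of_dvd (by norm_num) h <;> omega
    · exfalso
      have := alt_four_pow (j (φ (DihedralGroup.r 1)))
      rw [← orderOf_dvd_iff_pow_eq_one, ← orderOf_dvd_iff_pow_eq_one, MulEquiv.orderOf_eq, hord] at this
      have h3 : (Fintype.card F + 1) / 2 ≤ 3 := by
        rcases this with h | h <;> have := Nat.le_of_dvd (by norm_num) h <;> omega
      have h3' : (Fintype.card F + 1) / Nat.gcd 2 (Fintype.card F - 1) = 3 := by rw [hn]; omega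
      have hinj := j.injective.comp hφ
      refine (show j (φ (DihedralGroup.r 1)) ≠ 1 from fun hb => ?_)
        (alt_four_no_s3 (j (φ (DihedralGroup.r 1))) (j (φ (DihedralGroup.sr 0))) ?_ ?_ ?_ ?_)
      · have := orderOf_r_map (j.toMonoidHom.comp φ) hinj
        rw [show (j.toMonoidHom.comp φ) (DihedralGroup.r 1) = 1 from hb, orderOf_one] at this
        omega
      · have := orderOf_r_map (j.toMonoidHom.comp φ) hinj
        exact orderOf_dvd_iff_pow_eq_one.mp (dvd_of_eq (this.trans h3'))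
      · rw [← map_mul, ← map_mul, DihedralGroup.sr_mul_self, map_one, map_one]
      · intro h0
        exact absurd (hinj (h0.trans ((j.toMonoidHom.comp φ).map_one).symm))
          (by rw [DihedralGroup.one_def]; exact fun h => by cases h)
      · rw [← map_inv, ← map_inv, ← map_mul, ← map_mul, ← map_mul, ← map_mul, ← map_inv, ← map_inv]
        congr 2
        simp
    · exfalso
      have := perm_four_pow (j (φ (DihedralGroup.r 1)))
      rw [← orderOf_dvd_iff_pow_eq_one, ← orderOf_dvd_iff_pow_eq_one, MulEquiv.orderOf_eq, hord] at this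
      rcases this with h | h <;> have := Nat.le_of_dvd (by norm_num) h <;> omega

/-- The stabiliser of a rational pair is maximal. -/
theorem isCoatom_pslPairN_rat (h4 : 4 ≤ Fintype.card F) (h5 : Fintype.card F ≠ 5)
    (h7 : Fintype.card F ≠ 7) (h9 : Fintype.card F ≠ 9) (h11 : Fintype.card F ≠ 11)
    {x y : OnePoint (AlgebraicClosure F)}
    (i : pslPairN x y ≃*
      DihedralGroup ((Fintype.card F - 1) / Nat.gcd 2 (Fintype.card F - 1))) :
    IsCoatom (pslPairN x y) := by
  have hH := Nat.card_congr i.toEquiv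
  rw [DihedralGroup.nat_card] at hH
  obtain ⟨p, _⟩ := CharP.exists F
  have : Fact p.Prime := ⟨CharP.char_is_prime F p⟩
  rcases eq_top_or_exists_le_coatom (pslPairN x y) with htop | ⟨M, hM, hle⟩
  · rw [htop, Subgroup.card_top] at hH
    have hc := card_psl (F := F)
    rw [hH] at hc
    set q := Fintype.card F
    have h2 : 15 ≤ q ^ 2 - 1 := by have := Nat.pow_le_pow_left h4 2; omega
    have h3 : q * 15 ≤ q * (q ^ 2 - 1) := Nat.mul_le_mul_left _ h2
    rcases gcd_two_pred (F := F) with ⟨-, hd⟩ | ⟨-, hd⟩ <;> rw [hd] at hc <;> omega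
  suffices h : Nat.card M ≤ Nat.card (pslPairN x y) by
    rwa [Subgroup.eq_of_le_of_card_ge hle h]
  let φ : DihedralGroup ((Fintype.card F - 1) / Nat.gcd 2 (Fintype.card F - 1)) →* M :=
    (Subgroup.inclusion hle).comp i.symm.toMonoidHom
  have hφ : Function.Injective φ := (Subgroup.inclusion_injective hle).comp i.symm.injective
  have hdiv : Nat.card (pslPairN x y) ∣ Nat.card M := Subgroup.card_dvd_of_le hle
  obtain ⟨m, hpp, hpm⟩ := FiniteField.card F p
  have hpn : ¬ p ∣ (Fintype.card F - 1) / Nat.gcd 2 (Fintype.card F - 1) := by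
    intro h
    have h1 : p ∣ Fintype.card F - 1 := h.trans (Nat.div_dvd_of_dvd (Nat.gcd_dvd_right _ _))
    have h2 : p ∣ Fintype.card F := hpm ▸ dvd_pow_self p m.pos.ne'
    have h3 := Nat.dvd_sub h2 h1
    rw [show Fintype.card F - (Fintype.card F - 1) = 1 by omega] at h3
    exact hpp.one_lt.ne' (Nat.dvd_one.mp h3)
  have hnofix : ∀ z, 3 ≤ (Fintype.card F - 1) / Nat.gcd 2 (Fintype.card F - 1) →
      ¬ M ≤ pslStab z := fun z h3 hz =>
    not_dihedral_fixed p h3 hpn
      ((ProjectiveSpecialLinearGroup.toPGL (n := Fin 2) (R := F)).comp (M.subtype.comp φ))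
      (ProjectiveSpecialLinearGroup.toPGL_injective.comp (M.subtype_injective.comp hφ)) z
      fun d => hz (φ d).2
  rcases Nat.even_or_odd (Fintype.card F) with he | ho
  · have hd : Nat.gcd 2 (Fintype.card F - 1) = 1 := by
      rcases gcd_two_pred (F := F) with ⟨-, hd⟩ | ⟨ho, -⟩
      · exact hd
      · exact absurd he (Nat.not_even_iff_odd.mpr ho)
    rw [hd, Nat.div_one] at hH hpn hnofix
    rw [hH] at hdiv ⊢
    rcases _root_.Cfsg.Agent.S5893.result he h4 M hM with h | ⟨⟨j⟩⟩ | ⟨⟨j⟩⟩ | ⟨K, _, _, r, hr, hK2, hK, ⟨j⟩⟩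
    · exfalso
      obtain ⟨z, hz⟩ := le_pslStab_of_card he h4 h
      exact hnofix z (by omega) hz
    · rw [Nat.card_congr j.toEquiv, DihedralGroup.nat_card]
    · exfalso
      rw [Nat.card_congr j.toEquiv, DihedralGroup.nat_card] at hdiv
      have h1 := Nat.dvd_sub hdiv (dvd_refl (2 * (Fintype.card F - 1)))
      have := Nat.le_of_dvd (by omega) h1
      omega
    · exfalso
      have : CharP K p := charP_of_card_eq_pow p hK
      have hn1 := dihedral_le_card (K := K) p (by rw [hd]; omega) (by rwa [hd, Nat.div_one])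
        ((ProjectiveSpecialLinearGroup.toPGL (n := Fin 2) (R := K)).comp (j.toMonoidHom.comp φ))
        (ProjectiveSpecialLinearGroup.toPGL_injective.comp (j.injective.comp hφ))
      rw [hd, Nat.div_one, hK] at hn1
      set Q := Fintype.card K
      have hQ : 3 ≤ Q := by have : 2 ≤ Q := Fintype.one_lt_card; omega
      have h2 : Q ^ 2 ≤ Q ^ r := Nat.pow_le_pow_right (by omega) hr.two_le
      have h3 : Q * 3 ≤ Q ^ 2 := by rw [pow_two]; exact Nat.mul_le_mul_left _ hQ
      omega
  · have hd : Nat.gcd 2 (Fintype.card F - 1) = 2 := by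
      rcases gcd_two_pred (F := F) with ⟨he, -⟩ | ⟨-, hd⟩
      · exact absurd ho (Nat.not_odd_iff_even.mpr he)
      · exact hd
    have hF2 := Nat.odd_iff.mp ho
    have h13 : 13 ≤ Fintype.card F := by omega
    have hn : (Fintype.card F - 1) / Nat.gcd 2 (Fintype.card F - 1) =
        (Fintype.card F - 1) / 2 := by rw [hd]
    rw [hn, show 2 * ((Fintype.card F - 1) / 2) = Fintype.card F - 1 by omega] at hH
    rw [hH] at hdiv ⊢
    have hord := (orderOf_r_map φ hφ).trans hn
    rcases _root_.Cfsg.Agent.S5892.result p ho (by omega) M hM with h | ⟨-, k, hk, ⟨j⟩⟩ |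
      ⟨-, -, k, hk, ⟨j⟩⟩ | ⟨K, _, _, hK, ⟨j⟩⟩ | ⟨K, _, _, r, hr, hro, hK, ⟨j⟩⟩ | ⟨-, -, ⟨j⟩⟩ |
      ⟨-, -, -, ⟨j⟩⟩ | ⟨-, -, ⟨j⟩⟩
    · exfalso
      obtain ⟨c, hc⟩ := hdiv
      rw [hc] at h
      have h' : (Fintype.card F - 1) * (2 * c) = (Fintype.card F - 1) * Fintype.card F := by
        rw [mul_comm _ (Fintype.card F), ← h]; ring
      have := Nat.eq_of_mul_eq_mul_left (by omega) h'
      omega
    · rw [Nat.card_congr j.toEquiv, DihedralGroup.nat_card]; omega
    · exfalso
      rw [Nat.card_congr j.toEquiv, DihedralGroup.nat_card, hk] at hdiv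
      have h1 := Nat.dvd_sub hdiv (dvd_refl (Fintype.card F - 1))
      have := Nat.le_of_dvd (by omega) h1
      omega
    · exfalso
      have : CharP K p := charP_of_card_eq_pow p hK
      have hn1 := dihedral_le_card (K := K) p (by rw [hn]; omega) hpn (j.toMonoidHom.comp φ)
        (j.injective.comp hφ)
      rw [hn, hK] at hn1
      set Q := Fintype.card K
      have hQ : 4 ≤ Q := by
        by_contra h
        have := Nat.pow_le_pow_left (show Q ≤ 3 by omega) 2
        omega
      have h3 : Q * 4 ≤ Q ^ 2 := by rw [pow_two]; exact Nat.mul_le_mul_left _ hQ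
      omega
    · exfalso
      have : CharP K p := charP_of_card_eq_pow p hK
      have hn1 := dihedral_le_card (K := K) p (by rw [hn]; omega) hpn
        ((ProjectiveSpecialLinearGroup.toPGL (n := Fin 2) (R := K)).comp (j.toMonoidHom.comp φ))
        (ProjectiveSpecialLinearGroup.toPGL_injective.comp (j.injective.comp hφ))
      rw [hn, hK] at hn1
      set Q := Fintype.card K
      have hQ : 3 ≤ Q := by
        have h2 : 2 ≤ Q := Fintype.one_lt_card
        by_contra h
        have hQ2 : Q = 2 := by omega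
        rw [hK, hQ2] at ho
        exact Nat.not_even_iff_odd.mpr ho ((Nat.even_pow' hr.ne_zero).mpr even_two)
      have h3 : Q ^ 3 ≤ Q ^ r :=
        Nat.pow_le_pow_right (by omega) (by obtain ⟨t, rfl⟩ := hro; have := hr.two_le; omega)
      have h4' : Q * 9 ≤ Q ^ 3 :=
        calc Q * 9 ≤ Q * Q ^ 2 := Nat.mul_le_mul_left _ (Nat.pow_le_pow_left hQ 2)
          _ = Q ^ 3 := by ring
      omega
    · exfalso
      have := alt_five_pow (j (φ (DihedralGroup.r 1)))
      rw [← orderOf_dvd_iff_pow_eq_one, ← orderOf_dvd_iff_pow_eq_one, ← orderOf_dvd_iff_pow_eq_one,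
        MulEquiv.orderOf_eq, hord] at this
      rcases this with h | h | h <;> have := Nat.le_of_dvd (by norm_num) h <;> omega
    · exfalso
      have := alt_four_pow (j (φ (DihedralGroup.r 1)))
      rw [← orderOf_dvd_iff_pow_eq_one, ← orderOf_dvd_iff_pow_eq_one, MulEquiv.orderOf_eq, hord] at this
      rcases this with h | h <;> have := Nat.le_of_dvd (by norm_num) h <;> omega
    · exfalso
      have := perm_four_pow (j (φ (DihedralGroup.r 1)))
      rw [← orderOf_dvd_iff_pow_eq_one, ← orderOf_dvd_iff_pow_eq_one, MulEquiv.orderOf_eq, hord] at this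
      rcases this with h | h <;> have := Nat.le_of_dvd (by norm_num) h <;> omega

/-- Point stabilisers are maximal. -/
theorem isCoatom_pslStab (h4 : 4 ≤ Fintype.card F) (z : OnePoint F) : IsCoatom (pslStab z) := by
  have hH := card_pslStab z
  have hidx := index_pslStab z
  obtain ⟨p, _⟩ := CharP.exists F
  have : Fact p.Prime := ⟨CharP.char_is_prime F p⟩
  rcases eq_top_or_exists_le_coatom (pslStab z) with htop | ⟨M, hM, hle⟩
  · rw [htop, Subgroup.index_top] at hidx; omega
  suffices h : Nat.card M * Nat.gcd 2 (Fintype.card F - 1) ≤ Fintype.card F * (Fintype.card F - 1) by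
    rwa [Subgroup.eq_of_le_of_card_ge hle]
    rw [← hH] at h
    exact Nat.le_of_mul_le_mul_right h (by rcases gcd_two_pred (F := F) with ⟨-, hd⟩ | ⟨-, hd⟩ <;> omega)
  obtain ⟨c, hc⟩ : Fintype.card F * (Fintype.card F - 1) ∣
      Nat.card M * Nat.gcd 2 (Fintype.card F - 1) :=
    hH ▸ Nat.mul_dvd_mul_right (Subgroup.card_dvd_of_le hle) _
  have hbig : Fintype.card F * (Fintype.card F - 1) ≤ Nat.card M * Nat.gcd 2 (Fintype.card F - 1) := by
    rw [← hH]; exact Nat.mul_le_mul_right _ (Subgroup.card_le_of_le hle)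
  have h3q : 3 * Fintype.card F ≤ Fintype.card F * (Fintype.card F - 1) := by
    rw [mul_comm 3]; exact Nat.mul_le_mul_left _ (by omega)
  rcases Nat.even_or_odd (Fintype.card F) with he | ho
  · have hd : Nat.gcd 2 (Fintype.card F - 1) = 1 := by
      rcases gcd_two_pred (F := F) with ⟨-, hd⟩ | ⟨ho, -⟩
      · exact hd
      · exact absurd he (Nat.not_even_iff_odd.mpr ho)
    rw [hd, mul_one] at hbig ⊢
    rcases _root_.Cfsg.Agent.S5893.result he h4 M hM with h | ⟨⟨j⟩⟩ | ⟨⟨j⟩⟩ | ⟨K, _, _, r, hr, hK2, hK, ⟨j⟩⟩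
    · exact h.le
    · rw [Nat.card_congr j.toEquiv, DihedralGroup.nat_card] at hbig; omega
    · rw [Nat.card_congr j.toEquiv, DihedralGroup.nat_card] at hbig; omega
    · exfalso
      have hKe : Even (Fintype.card K) := (Nat.even_pow.mp (hK ▸ he)).1
      classical
      have hc := card_psl (F := K)
      rw [show Nat.gcd 2 (Fintype.card K - 1) = 1 by
        rcases gcd_two_pred (F := K) with ⟨-, hd⟩ | ⟨ho, -⟩
        · exact hd
        · exact absurd hKe (Nat.not_even_iff_odd.mpr ho), mul_one, ← Nat.card_congr j.toEquiv] at hc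
      rw [hc, hK] at hbig
      set Q := Fintype.card K
      have hQ : 3 ≤ Q := by have : 2 ≤ Q := Fintype.one_lt_card; omega
      have h2 : Q ^ 2 ≤ Q ^ r := Nat.pow_le_pow_right (by omega) hr.two_le
      have h9 := Nat.pow_le_pow_left hQ 2
      have : Q ^ 2 * (Q ^ 2 - 1) ≤ Q ^ r * (Q ^ r - 1) := Nat.mul_le_mul h2 (by omega)
      have : Q * (Q ^ 2 - 1) < Q ^ 2 * (Q ^ 2 - 1) :=
        Nat.mul_lt_mul_of_pos_right (lt_self_pow₀ (by omega) (by norm_num)) (by omega)
      omega
  · have hd : Nat.gcd 2 (Fintype.card F - 1) = 2 := by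
      rcases gcd_two_pred (F := F) with ⟨he, -⟩ | ⟨-, hd⟩
      · exact absurd ho (Nat.not_odd_iff_even.mpr he)
      · exact hd
    have hF2 := Nat.odd_iff.mp ho
    rw [hd] at hbig hc ⊢
    rcases _root_.Cfsg.Agent.S5892.result p ho (by omega) M hM with h | ⟨-, k, hk, ⟨j⟩⟩ |
      ⟨-, -, k, hk, ⟨j⟩⟩ | ⟨K, _, _, hK, ⟨j⟩⟩ | ⟨K, _, _, r, hr, hro, hK, ⟨j⟩⟩ |
      ⟨h10, hp, ⟨j⟩⟩ | ⟨hqp, h8, -, ⟨j⟩⟩ | ⟨hqp, h8, ⟨j⟩⟩
    · rw [← h, mul_comm]
    · rw [Nat.card_congr j.toEquiv, DihedralGroup.nat_card] at hbig; omega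
    · rw [Nat.card_congr j.toEquiv, DihedralGroup.nat_card] at hbig; omega
    · exfalso
      classical
      rw [Nat.card_congr j.toEquiv, card_pgl2, hK] at hbig
      set Q := Fintype.card K
      have hQ : 3 ≤ Q := by
        by_contra h
        have := Nat.pow_le_pow_left (show Q ≤ 2 by omega) 2
        omega
      have he : (Q + 1) * (Q * (Q - 1)) = Q * (Q ^ 2 - 1) := by
        rw [pow_two, show 1 = 1 * 1 from rfl, Nat.mul_self_sub_mul_self_eq]; ring
      rw [he, show Q ^ 2 * (Q ^ 2 - 1) = Q * (Q * (Q ^ 2 - 1)) by ring] at hbig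
      have h9 := Nat.pow_le_pow_left hQ 2
      have : 3 * (Q * (Q ^ 2 - 1)) ≤ Q * (Q * (Q ^ 2 - 1)) := Nat.mul_le_mul_right _ hQ
      have : 0 < Q * (Q ^ 2 - 1) := Nat.mul_pos (by omega) (by omega)
      omega
    · exfalso
      have hc' := psl_two_mul_card (F := K) ((Nat.odd_pow_iff hr.ne_zero).mp (hK ▸ ho))
      rw [← Nat.card_congr j.toEquiv] at hc'
      rw [hK] at hbig
      set Q := Fintype.card K
      have hQ : 2 ≤ Q := Fintype.one_lt_card
      have h2 : Q ^ 2 ≤ Q ^ r := Nat.pow_le_pow_right (by omega) hr.two_le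
      have h4' := Nat.pow_le_pow_left hQ 2
      have : Q ^ 2 * (Q ^ 2 - 1) ≤ Q ^ r * (Q ^ r - 1) := Nat.mul_le_mul h2 (by omega)
      have : Q * (Q ^ 2 - 1) < Q ^ 2 * (Q ^ 2 - 1) :=
        Nat.mul_lt_mul_of_pos_right (lt_self_pow₀ (by omega) (by norm_num)) (by omega)
      omega
    · exfalso
      rw [Nat.card_congr j.toEquiv, Nat.card_eq_fintype_card,
        show Fintype.card (alternatingGroup (Fin 5)) = 60 by decide +kernel] at hbig hc
      have hq : Fintype.card F ≤ 11 := by
        by_contra h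
        have : 12 * 11 ≤ Fintype.card F * (Fintype.card F - 1) := Nat.mul_le_mul (by omega) (by omega)
        omega
      have : Fintype.card F = 9 ∨ Fintype.card F = 11 := by omega
      rcases this with h | h <;> rw [h] at hc <;> omega
    · exfalso
      rw [Nat.card_congr j.toEquiv, Nat.card_eq_fintype_card,
        show Fintype.card (alternatingGroup (Fin 4)) = 12 by decide +kernel] at hbig hc
      have hq : Fintype.card F ≤ 5 := by
        by_contra h
        have : 6 * 5 ≤ Fintype.card F * (Fintype.card F - 1) := Nat.mul_le_mul (by omega) (by omega)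
        omega
      rw [show Fintype.card F = 5 by omega] at hc
      omega
    · exfalso
      rw [Nat.card_congr j.toEquiv, Nat.card_perm, Nat.card_eq_fintype_card, Fintype.card_fin,
        show Nat.factorial 4 = 24 from rfl] at hbig hc
      have hq : Fintype.card F ≤ 7 := by
        by_contra h
        have : 8 * 7 ≤ Fintype.card F * (Fintype.card F - 1) := Nat.mul_le_mul (by omega) (by omega)
        omega
      rw [show Fintype.card F = 7 by omega] at hc
      omega

/-- There are rational and quadratic pairs. -/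
theorem exists_pslPairN_rat : ∃ x y : OnePoint (AlgebraicClosure F),
    IsTorusPair (F := F) x y ∧ Nonempty (pslPairN x y ≃*
      DihedralGroup ((Fintype.card F - 1) / Nat.gcd 2 (Fintype.card F - 1))) := by
  have hx : IsRat (F := F) (OnePoint.infty : OnePoint (AlgebraicClosure F)) := ⟨OnePoint.infty, rfl⟩
  have hy : IsRat (F := F) ((algebraMap F (AlgebraicClosure F) 0 : AlgebraicClosure F) :
    OnePoint (AlgebraicClosure F)) := ⟨((0 : F) : OnePoint F), rfl⟩
  have hne := OnePoint.infty_ne_coe (algebraMap F (AlgebraicClosure F) 0)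
  refine ⟨_, _, ⟨hne, Or.inl ⟨hx, hy⟩⟩, ?_⟩
  have e := Dickson.pslPairN_dihedral hne (exists_swap_rat hne hx hy)
    fun ho => not_le_range_rat ho hne hx hy
  rwa [card_pairT_rat hne hx hy] at e

theorem exists_pslPairN_quad : ∃ x y : OnePoint (AlgebraicClosure F),
    IsTorusPair (F := F) x y ∧ Nonempty (pslPairN x y ≃*
      DihedralGroup ((Fintype.card F + 1) / Nat.gcd 2 (Fintype.card F - 1))) := by
  obtain ⟨c, hc⟩ := exists_isQuad (F := F)
  refine ⟨_, _, ⟨fun h => hc.1 (OnePoint.coe_injective h).symm, Or.inr ⟨c, hc, rfl, rfl⟩⟩, ?_⟩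
  have e := Dickson.pslPairN_dihedral (fun h => hc.1 (OnePoint.coe_injective h).symm)
    (exists_swap_quad hc) fun ho => not_le_range_quad ho hc
  rwa [card_pairT_quad hc] at e

end Exist

end CfsgLib.Dickson
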