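import Cfsg.Agent.Dickson.MaxCoatom
import Cfsg.Agent.Dickson.MaxPoly
import Cfsg.Agent.S5940
import Cfsg.Agent.Classical.Linear.Simple
import Cfsg.Agent.SL2.Basic

/-!
Every non-trivial proper subgroup of `PSL(2, 13)` has a maximal subgroup as its normaliser.
-/

set_option autoImplicit false

namespace CfsgLib.Dickson.Thirteen

open Matrix
open scoped MatrixGroups commutatorElement

section General

variable {G : Type*} [Group G]

/-- The normaliser of `H` contains a maximal subgroup. -/
def Good (H : Subgroup G) : Prop :=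
  ∃ M : Subgroup G, IsCoatom M ∧ M ≤ Subgroup.normalizer (H : Set G)

theorem good_conj {H : Subgroup G} (g : G) (h : Good H) :
    Good (H.map (MulAut.conj g).toMonoidHom) := by
  obtain ⟨M, hM, hle⟩ := h
  refine ⟨M.map (MulAut.conj g).toMonoidHom,
    (OrderIso.isCoatom_iff (MulAut.conj g).mapSubgroup M).mpr hM, ?_⟩
  exact (Subgroup.map_mono hle).trans (Subgroup.le_normalizer_map _)

theorem le_normalizer_zpowers {M : Subgroup G} {a : G}
    (h : ∀ x ∈ M, x * a * x⁻¹ ∈ Subgroup.zpowers a) :
    M ≤ Subgroup.normalizer ((Subgroup.zpowers a : Subgroup G) : Set G) := by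
  have key : ∀ x ∈ M, ∀ y ∈ Subgroup.zpowers a, x * y * x⁻¹ ∈ Subgroup.zpowers a := by
    rintro x hx _ ⟨k, rfl⟩
    rw [← conj_zpow]
    exact zpow_mem (h x hx) k
  intro x hx
  rw [Subgroup.mem_normalizer_iff]
  intro y
  refine ⟨key x hx y, fun hy => ?_⟩
  have h1 := key _ (inv_mem hx) _ hy
  simpa [mul_assoc] using h1

theorem le_normalizer_zpowers_of_dihedral {M : Subgroup G} {n : ℕ} (i : M ≃* DihedralGroup n)
    (k : ZMod n) :
    M ≤ Subgroup.normalizer
      ((Subgroup.zpowers ((i.symm (DihedralGroup.r k) : M) : G) : Subgroup G) : Set G) := by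
  refine le_normalizer_zpowers fun x hx => ?_
  set a := i.symm (DihedralGroup.r k)
  have key : i (⟨x, hx⟩ * a * ⟨x, hx⟩⁻¹) = DihedralGroup.r k ∨
      i (⟨x, hx⟩ * a * ⟨x, hx⟩⁻¹) = (DihedralGroup.r k)⁻¹ := by
    rw [map_mul, map_mul, map_inv, show i a = DihedralGroup.r k from i.apply_symm_apply _]
    cases i ⟨x, hx⟩ with
    | r j => left; simp
    | sr j => right; simp
  rcases key with h | h
  · have h1 := congrArg Subtype.val (i.injective (h.trans (i.apply_symm_apply _).symm))
    simp only [Subgroup.coe_mul, Subgroup.coe_inv] at h1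
    rw [h1]
    exact Subgroup.mem_zpowers _
  · have h1 : ⟨x, hx⟩ * a * ⟨x, hx⟩⁻¹ = a⁻¹ :=
      i.injective (by rw [h, map_inv]; simp [a])
    have h2 := congrArg Subtype.val h1
    simp only [Subgroup.coe_mul, Subgroup.coe_inv] at h2
    rw [h2]
    exact inv_mem (Subgroup.mem_zpowers _)

variable [Finite G]

theorem card_pow_le {r k : ℕ} [Fact r.Prime] (hnd : ¬ r ^ (k + 1) ∣ Nat.card G) {W : Subgroup G}
    (hW : IsPGroup r W) : Nat.card W ≤ r ^ k := by
  obtain ⟨j, hj⟩ := IsPGroup.iff_card.mp hW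
  rw [hj]
  refine Nat.pow_le_pow_right (Fact.out : r.Prime).pos (not_lt.1 fun h => hnd ?_)
  exact (pow_dvd_pow r h).trans (hj ▸ Subgroup.card_subgroup_dvd_card W)

theorem sylow_conj {r k : ℕ} [Fact r.Prime] (hnd : ¬ r ^ (k + 1) ∣ Nat.card G) {H U : Subgroup G}
    (hH : Nat.card H = r ^ k) (hU : Nat.card U = r ^ k) :
    ∃ g : G, U.map (MulAut.conj g).toMonoidHom = H := by
  obtain ⟨Q, hQ⟩ := (IsPGroup.of_card hU).exists_le_sylow
  obtain ⟨R, hR⟩ := (IsPGroup.of_card hH).exists_le_sylow
  have hQe : U = Q := Subgroup.eq_of_le_of_card_ge hQ (hU ▸ card_pow_le hnd Q.isPGroup')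
  have hRe : H = R := Subgroup.eq_of_le_of_card_ge hR (hH ▸ card_pow_le hnd R.isPGroup')
  obtain ⟨g, hg⟩ := MulAction.exists_smul_eq G Q R
  exact ⟨g, by rw [hQe, hRe, ← hg, Sylow.coe_subgroup_smul]; rfl⟩

theorem eq_of_le_normalizer {r : ℕ} [Fact r.Prime] (hnd : ¬ r ^ 2 ∣ Nat.card G) {U W : Subgroup G}
    (hU : Nat.card U = r) (hW : IsPGroup r W) (hle : W ≤ Subgroup.normalizer (U : Set G)) :
    W ≤ U := by
  have h := card_pow_le (k := 1) hnd
    (hW.to_sup_of_normal_right' (IsPGroup.of_card (n := 1) (by rw [hU, pow_one])) hle)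
  rw [pow_one, ← hU] at h
  exact (Subgroup.eq_of_le_of_card_ge (le_sup_right : U ≤ W ⊔ U) h).symm ▸ le_sup_left

theorem le_normalizer_of_small {r m : ℕ} [Fact r.Prime] {H U : Subgroup G} (hUH : U ≤ H)
    (hU : Nat.card U = r) (hH : Nat.card H = r * m) (hm : ¬ r ∣ m)
    (hd : ∀ d, d ∣ m → d % r = 1 → d = 1) : H ≤ Subgroup.normalizer (U : Set G) := by
  have hcU : Nat.card (U.subgroupOf H) = r := by
    rw [Nat.card_congr (Subgroup.subgroupOfEquivOfLe hUH).toEquiv, hU]
  have hi : (U.subgroupOf H).index = m := by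
    have h := Subgroup.card_mul_index (U.subgroupOf H)
    rw [hcU, hH] at h
    exact Nat.eq_of_mul_eq_mul_left (Fact.out : r.Prime).pos h
  let Q : Sylow r H :=
    (IsPGroup.of_card (n := 1) (by rw [hcU, pow_one]) : IsPGroup r (U.subgroupOf H)).toSylow
      (by rw [hi]; exact hm)
  have h1 : Nat.card (Sylow r H) = 1 := by
    refine hd _ (hi ▸ Q.card_dvd_index) ?_
    have h2 := card_sylow_modEq_one r H
    rwa [Nat.ModEq, Nat.one_mod_eq_one.mpr (Fact.out : r.Prime).ne_one] at h2
  haveI : Subsingleton (Sylow r H) := (Nat.card_eq_one_iff_unique.mp h1).1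
  haveI : (U.subgroupOf H).Normal := Q.normal_of_subsingleton
  exact (Subgroup.normal_subgroupOf_iff_le_normalizer hUH).mp inferInstance

theorem le_normalizer_sylow_two_of_twelve {H V : Subgroup G} (hH : Nat.card H = 12) (hVH : V ≤ H)
    (hV : Nat.card V = 4) (h3 : Nat.card (Sylow 3 H) ≠ 1) :
    H ≤ Subgroup.normalizer (V : Set G) := by
  classical
  haveI : Fintype H := Fintype.ofFinite _
  haveI : Fintype (Sylow 3 H) := Fintype.ofFinite _
  haveI : Fact (Nat.Prime 3) := ⟨Nat.prime_three⟩
  have hQc : ∀ Q : Sylow 3 H, Nat.card Q = 3 := fun Q => by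
    rw [Sylow.card_eq_multiplicity, hH, show Nat.factorization 12 3 = 1 by
      rw [show 12 = 3 ^ 1 * 4 from rfl, Nat.factorization_mul (by norm_num) (by norm_num),
        Finsupp.add_apply, Nat.Prime.factorization_pow Nat.prime_three, Finsupp.single_eq_same,
        Nat.factorization_eq_zero_of_not_dvd (show ¬ 3 ∣ 4 by norm_num)], pow_one]
  have h4 : 4 ≤ Nat.card (Sylow 3 H) := by
    have h1 := card_sylow_modEq_one 3 H
    have h2 : 0 < Nat.card (Sylow 3 H) := Nat.card_pos
    rw [Nat.ModEq] at h1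
    omega
  set S := (Finset.univ : Finset H).filter (fun x => orderOf x = 3) with hS
  let f : Sylow 3 H → Finset H := fun Q => Finset.univ.filter (fun x => x ∈ Q ∧ x ≠ 1)
  have hf : ∀ Q, (f Q).card = 2 := fun Q => by
    have h1 : f Q = ((Finset.univ : Finset H).filter (fun x => x ∈ Q)).erase 1 := by
      ext x; simp [f, and_comm]
    rw [h1, Finset.card_erase_of_mem (by simp [one_mem]), ← Fintype.card_subtype,
      ← Nat.card_eq_fintype_card, show Nat.card {x : H // x ∈ Q} = Nat.card Q from rfl, hQc]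
  have hsub : Finset.univ.biUnion f ⊆ S := fun x hx => by
    obtain ⟨Q, -, hxQ⟩ := Finset.mem_biUnion.mp hx
    obtain ⟨hxQ, hx1⟩ := (Finset.mem_filter.mp hxQ).2
    have hd : orderOf x ∣ 3 := hQc Q ▸ Subgroup.orderOf_dvd_natCard (Q : Subgroup H) hxQ
    refine Finset.mem_filter.mpr ⟨Finset.mem_univ _, ?_⟩
    rcases (Nat.dvd_prime Nat.prime_three).mp hd with h | h
    · exact absurd (orderOf_eq_one_iff.mp h) hx1
    · exact h
  have hdisj : ∀ Q ∈ (Finset.univ : Finset (Sylow 3 H)), ∀ R ∈ (Finset.univ : Finset (Sylow 3 H)),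
      Q ≠ R → Disjoint (f Q) (f R) := fun Q _ R _ hne => Finset.disjoint_left.mpr fun x hxQ hxR => by
    obtain ⟨hxQ, hx1⟩ := (Finset.mem_filter.mp hxQ).2
    obtain ⟨hxR, -⟩ := (Finset.mem_filter.mp hxR).2
    have key : ∀ Q : Sylow 3 H, x ∈ Q → (Q : Subgroup H) = Subgroup.zpowers x := fun Q hQ =>
      (Subgroup.eq_of_le_of_card_ge (Subgroup.zpowers_le.mpr hQ) (by
        rw [Nat.card_zpowers]
        have hd : orderOf x ∣ 3 := hQc Q ▸ Subgroup.orderOf_dvd_natCard (Q : Subgroup H) hQ
        rcases (Nat.dvd_prime Nat.prime_three).mp hd with h | h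
        · exact absurd (orderOf_eq_one_iff.mp h) hx1
        · rw [h, hQc])).symm
    exact hne (Sylow.ext ((key Q hxQ).trans (key R hxR).symm))
  have hS8 : 8 ≤ S.card := by
    refine le_trans ?_ (Finset.card_le_card hsub)
    rw [Finset.card_biUnion hdisj, Finset.sum_congr rfl fun Q _ => hf Q, Finset.sum_const,
      Finset.card_univ, smul_eq_mul, ← Nat.card_eq_fintype_card]
    omega
  set V' := V.subgroupOf H
  have hV' : Nat.card V' = 4 := by
    rw [Nat.card_congr (Subgroup.subgroupOfEquivOfLe hVH).toEquiv, hV]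
  have hmem : ∀ x : H, x ∈ V' ↔ x ∉ S := by
    have hle : (Finset.univ.filter fun x : H => x ∈ V') ⊆ Sᶜ := fun x hx => by
      refine Finset.mem_compl.mpr fun hxS => ?_
      have h1 : orderOf x ∣ 4 := hV' ▸ Subgroup.orderOf_dvd_natCard V' (Finset.mem_filter.mp hx).2
      rw [(Finset.mem_filter.mp hxS).2] at h1
      norm_num at h1
    have heq : (Finset.univ.filter fun x : H => x ∈ V') = Sᶜ := by
      refine Finset.eq_of_subset_of_card_le hle ?_
      have h1 : (Finset.univ.filter fun x : H => x ∈ V').card = 4 := by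
        rw [← Fintype.card_subtype, ← Nat.card_eq_fintype_card]
        exact hV'
      have h2 : Fintype.card H = 12 := by rw [← Nat.card_eq_fintype_card]; exact hH
      rw [Finset.card_compl, h1, h2]
      omega
    intro x
    simpa using Finset.ext_iff.mp heq x
  haveI : V'.Normal := ⟨fun x hx g => by
    rw [hmem] at hx ⊢
    intro hc
    refine hx (Finset.mem_filter.mpr ⟨Finset.mem_univ _, ?_⟩)
    rw [← (Finset.mem_filter.mp hc).2]
    exact (orderOf_injective (MulAut.conj g).toMonoidHom (MulAut.conj g).injective x).symm⟩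
  exact (Subgroup.normal_subgroupOf_iff_le_normalizer hVH).mp inferInstance

theorem index_not_le_six [IsSimpleGroup G] (h13 : 13 ∣ Nat.card G) {H : Subgroup G} (hH : H ≠ ⊤) :
    6 < H.index := by
  by_contra hle
  rw [not_lt] at hle
  have hker : (MulAction.toPermHom G (G ⧸ H)).ker = ⊥ := by
    rw [← Subgroup.normalCore_eq_ker]
    rcases (Subgroup.normalCore_normal H).eq_bot_or_eq_top with h | h
    · exact h
    · exact absurd (top_le_iff.mp (h ▸ Subgroup.normalCore_le H)) hH
  have hd : Nat.card G ∣ Nat.card (Equiv.Perm (G ⧸ H)) :=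
    Subgroup.card_dvd_of_injective _ ((MonoidHom.ker_eq_bot_iff _).mp hker)
  rw [Nat.card_perm, ← Subgroup.index_eq_card] at hd
  have := (Nat.Prime.dvd_factorial (by norm_num : Nat.Prime 13)).mp (h13.trans hd)
  omega

end General

variable {F : Type*} [Field F] [Fintype F]

local notation "P" => Matrix.ProjectiveSpecialLinearGroup (Fin 2) F

theorem card_thirteen (hF : Fintype.card F = 13) : Nat.card P = 1092 := by
  have h := psl_two_mul_card (F := F) (by rw [hF]; decide)
  rw [hF] at h
  norm_num at h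
  omega

theorem exists_good_data (hF : Fintype.card F = 13) :
    (∃ (B U : Subgroup P), IsCoatom B ∧ Nat.card B = 78 ∧ Nat.card U = 13 ∧ U ≤ B ∧
      B ≤ Subgroup.normalizer (U : Set P) ∧ ∀ x ∈ B, ∀ y ∈ B, ⁅x, y⁆ ^ 13 = 1) ∧
    (∃ (D U : Subgroup P), IsCoatom D ∧ Nat.card D = 14 ∧ Nat.card U = 7 ∧
      D ≤ Subgroup.normalizer (U : Set P)) ∧
    (∃ (D U : Subgroup P), IsCoatom D ∧ Nat.card D = 12 ∧ Nat.card U = 3 ∧
      D ≤ Subgroup.normalizer (U : Set P)) ∧
    (∃ (D U : Subgroup P), IsCoatom D ∧ Nat.card U = 2 ∧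
      D ≤ Subgroup.normalizer (U : Set P)) ∧
    (∃ (A V : Subgroup P), IsCoatom A ∧ Nat.card A = 12 ∧ Nat.card V = 4 ∧
      A ≤ Subgroup.normalizer (V : Set P) ∧
      ∀ x ∈ V, ∀ y ∈ V, x ≠ 1 → y ≠ 1 → IsConj x y) := by
  classical
  haveI : Fact (Nat.Prime 13) := ⟨by norm_num⟩
  haveI : CharP F 13 := charP_of_card_eq_prime hF
  refine ⟨?_, ?_, ?_, ?_, ?_⟩
  · set B := pslStab (OnePoint.infty : OnePoint F) with hB
    have hc : Nat.card B = 78 := by
      have h := card_pslStab (OnePoint.infty : OnePoint F)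
      rw [← hB, hF, show Nat.gcd 2 (13 - 1) = 2 from rfl] at h
      omega
    obtain ⟨U, hU⟩ := Sylow.exists_subgroup_card_pow_prime (G := B) 13 (n := 1)
      (by rw [hc]; norm_num)
    have hU' : Nat.card (U.map B.subtype) = 13 := by
      rw [Subgroup.card_map_of_injective B.subtype_injective, hU, pow_one]
    refine ⟨B, U.map B.subtype, isCoatom_pslStab (by rw [hF]; norm_num) _, hc, hU',
      Subgroup.map_subtype_le U, ?_, fun x hx y hy =>
        commutator_pow_char_eq_one_of_mem_pslStab 13 hx hy⟩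
    refine le_normalizer_of_small (m := 6) (Subgroup.map_subtype_le U) hU' (by rw [hc])
      (by norm_num) fun d hd h1 => ?_
    have := Nat.le_of_dvd (by norm_num) hd
    omega
  · obtain ⟨x, y, -, ⟨i⟩⟩ := exists_pslPairN_quad (F := F)
    have hD := isCoatom_pslPairN_quad (by rw [hF]; norm_num) (by rw [hF]; norm_num)
      (by rw [hF]; norm_num) i
    have hn : (Fintype.card F + 1) / Nat.gcd 2 (Fintype.card F - 1) = 7 := by rw [hF]; norm_num
    rw [hn] at i
    refine ⟨_, Subgroup.zpowers ((i.symm (DihedralGroup.r 1) : pslPairN x y) : P), hD, ?_, ?_,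
      le_normalizer_zpowers_of_dihedral i 1⟩
    · rw [Nat.card_congr i.toEquiv, DihedralGroup.nat_card]
    · rw [Nat.card_zpowers, Subgroup.orderOf_coe, i.symm.orderOf_eq, DihedralGroup.orderOf_r_one]
  all_goals
    obtain ⟨x, y, -, ⟨i⟩⟩ := exists_pslPairN_rat (F := F)
    have hD := isCoatom_pslPairN_rat (by rw [hF]; norm_num) (by rw [hF]; norm_num)
      (by rw [hF]; norm_num) (by rw [hF]; norm_num) (by rw [hF]; norm_num) i
    have hn : (Fintype.card F - 1) / Nat.gcd 2 (Fintype.card F - 1) = 6 := by rw [hF]; norm_num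
    rw [hn] at i
  · refine ⟨_, Subgroup.zpowers ((i.symm (DihedralGroup.r 2) : pslPairN x y) : P), hD, ?_, ?_,
      le_normalizer_zpowers_of_dihedral i 2⟩
    · rw [Nat.card_congr i.toEquiv, DihedralGroup.nat_card]
    · rw [Nat.card_zpowers, Subgroup.orderOf_coe, i.symm.orderOf_eq, DihedralGroup.orderOf_r]
      decide
  · refine ⟨_, Subgroup.zpowers ((i.symm (DihedralGroup.r 3) : pslPairN x y) : P), hD, ?_,
      le_normalizer_zpowers_of_dihedral i 3⟩
    rw [Nat.card_zpowers, Subgroup.orderOf_coe, i.symm.orderOf_eq, DihedralGroup.orderOf_r]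
    decide
  · obtain ⟨A, hA, ⟨j⟩⟩ :=
      Cfsg.Agent.S5940.result (F := F) 13 hF (by norm_num) (by norm_num) (by norm_num)
    let K : Subgroup (alternatingGroup (Fin 4)) :=
      { carrier := {a | a * a = 1}
        mul_mem' := fun {a b} ha hb =>
          (show ∀ a b : alternatingGroup (Fin 4), a * a = 1 → b * b = 1 → a * b * (a * b) = 1 by
            decide +kernel) a b ha hb
        one_mem' := mul_one 1
        inv_mem' := fun {a} (ha : a * a = 1) => show a⁻¹ * a⁻¹ = 1 by
          rw [← _root_.mul_inv_rev, ha, inv_one] }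
    let φ : alternatingGroup (Fin 4) →* P := A.subtype.comp j.symm.toMonoidHom
    have hφ : Function.Injective φ := A.subtype_injective.comp j.symm.injective
    haveI : K.Normal := ⟨fun a (ha : a * a = 1) g => show g * a * g⁻¹ * (g * a * g⁻¹) = 1 by
      rw [conj_mul, ha, mul_one, mul_inv_cancel]⟩
    refine ⟨A, K.map φ, hA, by rw [Nat.card_congr j.toEquiv, card_alt_four], ?_, ?_, ?_⟩
    · rw [Subgroup.card_map_of_injective hφ]
      show Nat.card {a : alternatingGroup (Fin 4) // a * a = 1} = 4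
      rw [Nat.card_eq_fintype_card]
      decide +kernel
    · intro a ha
      have hrange : a = φ (j ⟨a, ha⟩) := by simp [φ]
      rw [hrange]
      exact Subgroup.le_normalizer_map φ (Subgroup.mem_map_of_mem φ (by
        rw [Subgroup.normalizer_eq_top_iff.mpr inferInstance]; exact Subgroup.mem_top _))
    · rintro _ ⟨a, ha, rfl⟩ _ ⟨b, hb, rfl⟩ hx hy
      obtain ⟨c, hc⟩ := (show ∀ a b : alternatingGroup (Fin 4),
          a * a = 1 → b * b = 1 → a ≠ 1 → b ≠ 1 → ∃ c, c * a * c⁻¹ = b by decide +kernel)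
        a b ha hb (fun e => hx (by rw [e, map_one])) (fun e => hy (by rw [e, map_one]))
      exact φ.map_isConj (isConj_iff.mpr ⟨c, hc⟩)

/-- Every non-trivial proper subgroup has a maximal subgroup inside its normaliser. -/
theorem good_of_ne (hF : Fintype.card F = 13) {H : Subgroup P} (h0 : H ≠ ⊥) (h1 : H ≠ ⊤) :
    Good H := by
  classical
  obtain ⟨⟨B, U13, hB, hBc, hU13, -, hBN, hcomm⟩, ⟨D7, U7, hD7, hD7c, hU7, hD7N⟩,
    ⟨D3, U3, hD3, hD3c, hU3, hD3N⟩, ⟨D2, U2, hD2, hU2, hD2N⟩,
    ⟨A, V, hA, hAc, hV, hAN, hVconj⟩⟩ := exists_good_data hF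
  have hP := card_thirteen hF
  haveI : IsSimpleGroup P :=
    Classical.Linear.isSimpleGroup_psl_fin le_rfl fun _ => by
      rw [Nat.card_eq_fintype_card, hF]; norm_num
  haveI h2f : Fact (Nat.Prime 2) := ⟨Nat.prime_two⟩
  haveI h3f : Fact (Nat.Prime 3) := ⟨Nat.prime_three⟩
  haveI h7f : Fact (Nat.Prime 7) := ⟨by norm_num⟩
  haveI h13f : Fact (Nat.Prime 13) := ⟨by norm_num⟩
  have hHdvd : Nat.card H ∣ 1092 := hP ▸ Subgroup.card_subgroup_dvd_card H
  have hNeq : ∀ {M U : Subgroup P}, IsCoatom M → M ≤ Subgroup.normalizer (U : Set P) →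
      U ≠ ⊥ → U ≠ ⊤ → Subgroup.normalizer (U : Set P) = M := by
    intro M U hM hle hU0 hU1
    refine (hM.le_iff.mp hle).resolve_left fun ht => ?_
    rcases (Subgroup.normalizer_eq_top_iff.mp ht).eq_bot_or_eq_top with h | h
    · exact hU0 h
    · exact hU1 h
  -- the normaliser of any subgroup of the given order
  have transport : ∀ {M U W : Subgroup P} {r k : ℕ}, r.Prime → ¬ r ^ (k + 1) ∣ 1092 →
      IsCoatom M → M ≤ Subgroup.normalizer (U : Set P) → Nat.card U = r ^ k →
      1 < r ^ k → r ^ k < 1092 → Nat.card W = r ^ k →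
      IsCoatom (Subgroup.normalizer (W : Set P)) ∧ ∃ g : P,
        U.map (MulAut.conj g).toMonoidHom = W ∧
        M.map (MulAut.conj g).toMonoidHom = Subgroup.normalizer (W : Set P) := by
    intro M U W r k hr hnd hM hle hUc hlt hgt hWc
    haveI := Fact.mk hr
    obtain ⟨g, hg⟩ := sylow_conj (hP.symm ▸ hnd) hWc hUc
    have hU0 : U ≠ ⊥ := fun h => by rw [h, Subgroup.card_bot] at hUc; omega
    have hU1 : U ≠ ⊤ := fun h => by rw [h, Subgroup.card_top, hP] at hUc; omega
    have hN : M.map (MulAut.conj g).toMonoidHom = Subgroup.normalizer (W : Set P) := by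
      rw [← hg, ← Subgroup.map_equiv_normalizer_eq, hNeq hM hle hU0 hU1]
    exact ⟨hN ▸ (OrderIso.isCoatom_iff (MulAut.conj g).mapSubgroup M).mpr hM, g, hg, hN⟩
  by_cases h13 : 13 ∣ Nat.card H
  · obtain ⟨m, hm⟩ := h13
    have hm84 : m ∣ 84 := Nat.dvd_of_mul_dvd_mul_left (by norm_num : 0 < 13)
      (by rw [← hm]; exact hHdvd)
    have h14 : ¬ 14 ∣ m := fun h => by
      have hidx := index_not_le_six (G := P) (by rw [hP]; norm_num) h1
      have hmul := Subgroup.card_mul_index H
      rw [hP, hm] at hmul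
      obtain ⟨e, rfl⟩ := h
      have : e ∣ 6 := Nat.dvd_of_mul_dvd_mul_left (by norm_num : 0 < 14) hm84
      have := Nat.le_of_dvd (by norm_num) this
      have : 13 * (14 * e) * H.index = 182 * (e * H.index) := by ring
      have he : e * H.index = 6 := by omega
      have : H.index ≤ 6 := Nat.le_of_dvd (by norm_num) (Dvd.intro_left e he)
      omega
    obtain ⟨U, hU⟩ := Sylow.exists_subgroup_card_pow_prime (G := H) 13 (n := 1)
      (by rw [hm]; norm_num)
    have hUc : Nat.card (U.map H.subtype) = 13 := by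
      rw [Subgroup.card_map_of_injective H.subtype_injective, hU, pow_one]
    have hHN : H ≤ Subgroup.normalizer ((U.map H.subtype : Subgroup P) : Set P) := by
      refine le_normalizer_of_small (m := m) (Subgroup.map_subtype_le U) hUc hm ?_ fun d hd h => ?_
      · intro h
        have := h.trans hm84
        norm_num at this
      · have hd84 := hd.trans hm84
        have := Nat.le_of_dvd (by norm_num) hd84
        have hcases : d = 1 ∨ d = 14 ∨ d = 27 ∨ d = 40 ∨ d = 53 ∨ d = 66 ∨ d = 79 := by omega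
        rcases hcases with rfl | rfl | rfl | rfl | rfl | rfl | rfl
        · rfl
        · exact absurd hd h14
        all_goals norm_num at hd84
    obtain ⟨hcoat, g, hg, hgN⟩ := transport (r := 13) (k := 1) (by norm_num) (by norm_num) hB hBN
      (by rw [hU13, pow_one]) (by norm_num) (by norm_num) (by rw [hUc, pow_one])
    refine ⟨_, hcoat, ?_⟩
    have key : ∀ x ∈ Subgroup.normalizer ((U.map H.subtype : Subgroup P) : Set P), ∀ y ∈ H,
        x * y * x⁻¹ ∈ H := by
      intro x hx y hy
      have hy' := hHN hy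
      have hp : ⁅x, y⁆ ^ 13 = 1 := by
        rw [← hgN] at hx hy'
        obtain ⟨a, ha, rfl⟩ := hx
        obtain ⟨b, hb, rfl⟩ := hy'
        rw [← map_commutatorElement, ← map_pow, hcomm a ha b hb, map_one]
      have hin : ⁅x, y⁆ ∈ U.map H.subtype := by
        have hle : Subgroup.zpowers ⁅x, y⁆ ≤
            Subgroup.normalizer ((U.map H.subtype : Subgroup P) : Set P) :=
          Subgroup.zpowers_le.mpr (mul_mem (mul_mem (mul_mem hx (hHN hy)) (inv_mem hx))
            (inv_mem (hHN hy)))
        refine eq_of_le_normalizer (r := 13) (by rw [hP]; norm_num) hUc ?_ hle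
          (Subgroup.mem_zpowers _)
        obtain ⟨j, -, hj⟩ := (Nat.dvd_prime_pow h13f.out).mp
          (show orderOf ⁅x, y⁆ ∣ 13 ^ 1 from orderOf_dvd_of_pow_eq_one (by rw [pow_one]; exact hp))
        exact IsPGroup.of_card (n := j) (by rw [Nat.card_zpowers, hj])
      have h2 : ⁅x, y⁆ ∈ H := Subgroup.map_subtype_le U hin
      have : x * y * x⁻¹ = ⁅x, y⁆ * y := by rw [commutatorElement_def, inv_mul_cancel_right]
      rw [this]
      exact mul_mem h2 hy
    intro x hx
    rw [Subgroup.mem_normalizer_iff]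
    intro y
    refine ⟨key x hx y, fun h => ?_⟩
    have := key _ (inv_mem hx) _ h
    simpa [mul_assoc] using this
  have h84 : Nat.card H ∣ 84 :=
    Nat.Coprime.dvd_of_dvd_mul_left ((Nat.Prime.coprime_iff_not_dvd h13f.out).mpr h13).symm
      (show Nat.card H ∣ 13 * 84 from hHdvd)
  by_cases h7 : 7 ∣ Nat.card H
  · obtain ⟨m, hm⟩ := h7
    have hm12 : m ∣ 12 := Nat.dvd_of_mul_dvd_mul_left (by norm_num : 0 < 7) (by rw [← hm]; exact h84)
    obtain ⟨U, hU⟩ := Sylow.exists_subgroup_card_pow_prime (G := H) 7 (n := 1)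
      (by rw [hm]; norm_num)
    have hUc : Nat.card (U.map H.subtype) = 7 := by
      rw [Subgroup.card_map_of_injective H.subtype_injective, hU, pow_one]
    have hle12 := Nat.le_of_dvd (by norm_num) hm12
    have hHN : H ≤ Subgroup.normalizer ((U.map H.subtype : Subgroup P) : Set P) := by
      refine le_normalizer_of_small (m := m) (Subgroup.map_subtype_le U) hUc hm ?_ fun d hd h => ?_
      · intro h; have := h.trans hm12; norm_num at this
      · have hd12 := hd.trans hm12
        have := Nat.le_of_dvd (by norm_num) hd12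
        have hcases : d = 1 ∨ d = 8 := by omega
        rcases hcases with rfl | rfl
        · rfl
        · norm_num at hd12
    obtain ⟨hcoat, g, hg, hgN⟩ := transport (r := 7) (k := 1) (by norm_num) (by norm_num) hD7 hD7N
      (by rw [hU7, pow_one]) (by norm_num) (by norm_num) (by rw [hUc, pow_one])
    refine ⟨_, hcoat, ?_⟩
    have hNc : Nat.card (Subgroup.normalizer ((U.map H.subtype : Subgroup P) : Set P)) = 14 := by
      rw [← hgN, Subgroup.card_map_of_injective (MulAut.conj g).injective, hD7c]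
    have hd14 := Subgroup.card_dvd_of_le hHN
    rw [hNc, hm] at hd14
    have hm2 : m = 1 ∨ m = 2 :=
      (Nat.dvd_prime Nat.prime_two).mp (Nat.dvd_of_mul_dvd_mul_left (by norm_num : 0 < 7) hd14)
    rcases hm2 with rfl | rfl
    · rw [Subgroup.eq_of_le_of_card_ge (Subgroup.map_subtype_le U) (by rw [hm, hUc])]
    · rw [← Subgroup.eq_of_le_of_card_ge hHN (by rw [hNc, hm])]
      exact Subgroup.le_normalizer
  have h12 : Nat.card H ∣ 12 :=
    Nat.Coprime.dvd_of_dvd_mul_left ((Nat.Prime.coprime_iff_not_dvd h7f.out).mpr h7).symm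
      (show Nat.card H ∣ 7 * 12 from h84)
  have hcases : Nat.card H = 2 ∨ Nat.card H = 3 ∨ Nat.card H = 4 ∨ Nat.card H = 6 ∨
      Nat.card H = 12 := by
    have hm : Nat.card H ∈ Nat.divisors 12 := Nat.mem_divisors.mpr ⟨h12, by norm_num⟩
    rw [show Nat.divisors 12 = {1, 2, 3, 4, 6, 12} from by decide] at hm
    simp only [Finset.mem_insert, Finset.mem_singleton] at hm
    rcases hm with h | h | h | h | h | h
    · exact absurd (Subgroup.eq_bot_of_card_eq _ h) h0
    all_goals omega
  have h4case : ∀ W : Subgroup P, Nat.card W = 4 → IsCoatom (Subgroup.normalizer (W : Set P)) ∧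
      Nat.card (Subgroup.normalizer (W : Set P)) = 12 := fun W hW => by
    obtain ⟨hc, g, -, hgN⟩ := transport (r := 2) (k := 2) Nat.prime_two (by norm_num) hA hAN
      (by rw [hV]; norm_num) (by norm_num) (by norm_num) (by rw [hW]; norm_num)
    exact ⟨hc, by rw [← hgN, Subgroup.card_map_of_injective (MulAut.conj g).injective, hAc]⟩
  have h3case : ∀ W : Subgroup P, Nat.card W = 3 → IsCoatom (Subgroup.normalizer (W : Set P)) ∧
      Nat.card (Subgroup.normalizer (W : Set P)) = 12 := fun W hW => by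
    obtain ⟨hc, g, -, hgN⟩ := transport (r := 3) (k := 1) Nat.prime_three (by norm_num) hD3 hD3N
      (by rw [hU3, pow_one]) (by norm_num) (by norm_num) (by rw [hW, pow_one])
    exact ⟨hc, by rw [← hgN, Subgroup.card_map_of_injective (MulAut.conj g).injective, hD3c]⟩
  rcases hcases with h | h | h | h | h
  · -- involutions form one class
    have inV : ∀ W : Subgroup P, Nat.card W = 2 → ∃ g : P, ∃ v ∈ V, v ≠ 1 ∧
        W = (Subgroup.zpowers v).map (MulAut.conj g).toMonoidHom := by
      intro W hW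
      obtain ⟨Q, hQ⟩ := (IsPGroup.of_card (n := 1) (hW.trans (pow_one 2).symm)).exists_le_sylow
      obtain ⟨R, hR⟩ := (IsPGroup.of_card (n := 2) (hV.trans (by norm_num : 4 = 2 ^ 2))).exists_le_sylow
      have hRV : V = R := Subgroup.eq_of_le_of_card_ge hR (by
        rw [hV]; exact card_pow_le (k := 2) (by rw [hP]; norm_num) R.isPGroup')
      obtain ⟨g, hg⟩ := MulAction.exists_smul_eq P R Q
      rw [← hg, Sylow.coe_subgroup_smul] at hQ
      haveI : Nontrivial W := Finite.one_lt_card_iff_nontrivial.mp (by omega)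
      obtain ⟨w, hw⟩ := exists_ne (1 : W)
      obtain ⟨v, hv, hvw⟩ := hQ w.2
      have hv1 : v ≠ 1 := fun e => hw (Subtype.ext (by simp [← hvw, e]))
      refine ⟨g, v, hRV ▸ hv, hv1, ?_⟩
      rw [MonoidHom.map_zpowers]
      have hle : Subgroup.zpowers ((MulAut.conj g).toMonoidHom v) ≤ W :=
        Subgroup.zpowers_le.mpr (by rw [show (MulAut.conj g).toMonoidHom v = w from hvw]; exact w.2)
      refine (Subgroup.eq_of_le_of_card_ge hle ?_).symm
      rw [hW, Nat.card_zpowers]
      have h1 : orderOf ((MulAut.conj g).toMonoidHom v) ≠ 1 := fun e => hv1 (by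
        have := orderOf_eq_one_iff.mp e
        exact (MulAut.conj g).injective (this.trans (map_one _).symm))
      have h2 : 0 < orderOf ((MulAut.conj g).toMonoidHom v) := orderOf_pos _
      omega
    obtain ⟨g, v, hv, hv1, hgv⟩ := inV H h
    obtain ⟨g', v', hv', hv1', hgv'⟩ := inV U2 hU2
    obtain ⟨c, hc⟩ := isConj_iff.mp (hVconj v' hv' v hv hv1' hv1)
    have hv'N : Good (Subgroup.zpowers v') := by
      have := good_conj g'⁻¹ (⟨D2, hD2, hD2N⟩ : Good U2)
      rw [hgv', Subgroup.map_map] at this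
      convert this using 1
      rw [MonoidHom.map_zpowers]
      simp [mul_assoc]
    have hvN : Good (Subgroup.zpowers v) := by
      have := good_conj c hv'N
      rw [MonoidHom.map_zpowers] at this
      simpa [hc] using this
    rw [hgv]
    exact good_conj g hvN
  · exact ⟨_, (h3case H h).1, le_rfl⟩
  · exact ⟨_, (h4case H h).1, le_rfl⟩
  · obtain ⟨U, hU⟩ := Sylow.exists_subgroup_card_pow_prime (G := H) 3 (n := 1)
      (by rw [h]; norm_num)
    have hUc : Nat.card (U.map H.subtype) = 3 := by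
      rw [Subgroup.card_map_of_injective H.subtype_injective, hU, pow_one]
    have hHN : H ≤ Subgroup.normalizer ((U.map H.subtype : Subgroup P) : Set P) := by
      refine le_normalizer_of_small (m := 2) (Subgroup.map_subtype_le U) hUc (by rw [h])
        (by norm_num) fun d hd h' => ?_
      have := Nat.le_of_dvd (by norm_num) hd
      omega
    obtain ⟨hc, hN12⟩ := h3case _ hUc
    refine ⟨_, hc, ?_⟩
    haveI : (H.subgroupOf (Subgroup.normalizer ((U.map H.subtype : Subgroup P) : Set P))).Normal := by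
      refine Subgroup.normal_of_index_eq_two ?_
      have := Subgroup.card_mul_index
        (H.subgroupOf (Subgroup.normalizer ((U.map H.subtype : Subgroup P) : Set P)))
      rw [Nat.card_congr (Subgroup.subgroupOfEquivOfLe hHN).toEquiv, h, hN12] at this
      omega
    exact (Subgroup.normal_subgroupOf_iff_le_normalizer hHN).mp inferInstance
  · by_cases hs : Nat.card (Sylow 3 H) = 1
    · obtain ⟨U, hU⟩ := Sylow.exists_subgroup_card_pow_prime (G := H) 3 (n := 1)
        (by rw [h]; norm_num)
      have hUc : Nat.card (U.map H.subtype) = 3 := by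
        rw [Subgroup.card_map_of_injective H.subtype_injective, hU, pow_one]
      haveI : Subsingleton (Sylow 3 H) := (Nat.card_eq_one_iff_unique.mp hs).1
      obtain ⟨Q, hQ⟩ := (IsPGroup.of_card (n := 1) hU).exists_le_sylow
      have hUQ : U = Q := Subgroup.eq_of_le_of_card_ge hQ (by
        rw [hU]; exact card_pow_le (k := 1) (by rw [h]; norm_num) Q.isPGroup')
      haveI : U.Normal := hUQ ▸ Q.normal_of_subsingleton
      have hHN : H ≤ Subgroup.normalizer ((U.map H.subtype : Subgroup P) : Set P) := by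
        refine le_trans (le_of_eq ?_) (Subgroup.le_normalizer_map H.subtype)
        rw [Subgroup.normalizer_eq_top_iff.mpr inferInstance, ← MonoidHom.range_eq_map,
          Subgroup.range_subtype]
      obtain ⟨hc, hN12⟩ := h3case _ hUc
      refine ⟨_, hc, ?_⟩
      rw [← Subgroup.eq_of_le_of_card_ge hHN (by rw [hN12, h])]
      exact Subgroup.le_normalizer
    · obtain ⟨W, hW⟩ := Sylow.exists_subgroup_card_pow_prime (G := H) 2 (n := 2)
        (by rw [h]; norm_num)
      have hWc : Nat.card (W.map H.subtype) = 4 := by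
        rw [Subgroup.card_map_of_injective H.subtype_injective, hW]; norm_num
      have hHN := le_normalizer_sylow_two_of_twelve h (Subgroup.map_subtype_le W) hWc hs
      obtain ⟨hc, hN12⟩ := h4case _ hWc
      refine ⟨_, hc, ?_⟩
      rw [← Subgroup.eq_of_le_of_card_ge hHN (by rw [hN12, h])]
      exact Subgroup.le_normalizer

/-- The normaliser of a non-trivial proper subgroup is maximal. -/
theorem isCoatom_normalizer (hF : Fintype.card F = 13) {H : Subgroup P} (h0 : H ≠ ⊥) (h1 : H ≠ ⊤) :
    IsCoatom (Subgroup.normalizer (H : Set P)) := by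
  obtain ⟨M, hM, hle⟩ := good_of_ne hF h0 h1
  haveI : IsSimpleGroup P :=
    Classical.Linear.isSimpleGroup_psl_fin le_rfl fun _ => by
      rw [Nat.card_eq_fintype_card, hF]; norm_num
  rcases hM.le_iff.mp hle with ht | he
  · rcases (Subgroup.normalizer_eq_top_iff.mp ht).eq_bot_or_eq_top with h | h
    · exact absurd h h0
    · exact absurd h h1
  · exact he.symm ▸ hM

/-- Non-normal subgroups of `SL(2, 13)` have maximal normalisers. -/
theorem isCoatom_normalizer_sl (hF : Fintype.card F = 13)
    {A : Subgroup (Matrix.SpecialLinearGroup (Fin 2) F)} (hA : ¬ A.Normal) :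
    IsCoatom (Subgroup.normalizer (A : Set (Matrix.SpecialLinearGroup (Fin 2) F))) := by
  classical
  set Z := Subgroup.center (Matrix.SpecialLinearGroup (Fin 2) F) with hZ
  set π : Matrix.SpecialLinearGroup (Fin 2) F →* P := QuotientGroup.mk' Z with hπ
  have hsurj : Function.Surjective π := QuotientGroup.mk'_surjective _
  have h2 : (2 : F) ≠ 0 := SL2.two_ne_zero_iff_odd.mpr (by rw [hF]; decide)
  have hne : A.map π ≠ ⊥ := fun h => hA ⟨fun a ha g => by
    have hc : a ∈ Z := (QuotientGroup.eq_one_iff a).mp (Subgroup.mem_bot.mp (h ▸ ⟨a, ha, rfl⟩))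
    rw [Subgroup.mem_center_iff.mp hc g, mul_inv_cancel_right]
    exact ha⟩
  set A' := (A.map π).comap π with hA'
  have hA'eq : A' = A ⊔ Z := by rw [hA', Subgroup.comap_map_eq, hπ, QuotientGroup.ker_mk']
  by_cases hm : (-1 : Matrix.SpecialLinearGroup (Fin 2) F) ∈ A
  · have hZA : Z ≤ A := fun z hz => by
      rcases SL2.mem_center_iff'.mp hz with rfl | rfl
      · exact one_mem A
      · exact hm
    have hAA : A' = A := by rw [hA'eq, sup_eq_left.mpr hZA]
    have htop : A.map π ≠ ⊤ := fun h => hA (by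
      rw [← hAA, hA', h, Subgroup.comap_top]; infer_instance)
    rw [← hAA, hA', ← Subgroup.comap_normalizer_eq_of_surjective _ hsurj]
    exact Subgroup.isCoatom_comap_of_surjective hsurj (isCoatom_normalizer hF hne htop)
  · have hodd : ¬ 2 ∣ Nat.card A := fun h => by
      haveI : Fact (Nat.Prime 2) := ⟨Nat.prime_two⟩
      obtain ⟨z, hz⟩ := exists_prime_orderOf_dvd_card' (G := A) 2 h
      refine hm ?_
      have hz1 : (z : Matrix.SpecialLinearGroup (Fin 2) F) ≠ 1 := fun e => by
        rw [← Subgroup.orderOf_coe, e, orderOf_one] at hz; norm_num at hz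
      rw [← SL2.eq_neg_one_of_mul_self h2 hz1 (by
        rw [← Subgroup.coe_mul, ← pow_two, orderOf_dvd_iff_pow_eq_one.mp (dvd_of_eq hz),
          Subgroup.coe_one])]
      exact z.2
    have key : ∀ a : Matrix.SpecialLinearGroup (Fin 2) F,
        a ∈ A' → (a ∈ A ↔ a ^ Nat.card A = 1) := by
      intro a ha
      refine ⟨fun h => ?_, fun h => ?_⟩
      · have := pow_card_eq_one' (G := A) (x := ⟨a, h⟩)
        exact congrArg Subtype.val this
      · rw [hA'eq, Subgroup.mem_sup_of_normal_right] at ha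
        obtain ⟨b, hb, z, hz, rfl⟩ := ha
        rcases SL2.mem_center_iff'.mp hz with rfl | rfl
        · simpa using hb
        · exfalso
          have hc : Commute b (-1 : Matrix.SpecialLinearGroup (Fin 2) F) :=
            Subgroup.mem_center_iff.mp hz b
          have hbpow : b ^ Nat.card A = 1 :=
            congrArg Subtype.val (pow_card_eq_one' (G := A) (x := ⟨b, hb⟩))
          rw [hc.mul_pow, hbpow, one_mul,
            (Nat.odd_iff.mpr (Nat.two_dvd_ne_zero.mp hodd)).neg_one_pow] at h
          exact SL2.neg_one_ne_one h2 h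
    have htop : A.map π ≠ ⊤ := fun h => by
      have hA1 : A' = ⊤ := by rw [hA', h, Subgroup.comap_top]
      refine hA ⟨fun a ha g => ?_⟩
      rw [key _ (hA1 ▸ Subgroup.mem_top _), conj_pow, (key a (hA1 ▸ Subgroup.mem_top _)).mp ha,
        mul_one, mul_inv_cancel]
    have hN : Subgroup.normalizer (A : Set (Matrix.SpecialLinearGroup (Fin 2) F)) =
        Subgroup.normalizer (A' : Set (Matrix.SpecialLinearGroup (Fin 2) F)) := by
      refine le_antisymm (fun g hg => ?_) fun g hg => ?_
      · rw [hA'eq]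
        have hgZ : g ∈ Subgroup.normalizer (Z : Set (Matrix.SpecialLinearGroup (Fin 2) F)) := by
          rw [Subgroup.normalizer_eq_top_iff.mpr inferInstance]; exact Subgroup.mem_top _
        rw [Subgroup.mem_normalizer_iff_map_conj_eq] at hg hgZ ⊢
        rw [Subgroup.map_sup, hg, hgZ]
      · rw [Subgroup.mem_normalizer_iff] at hg ⊢
        intro a
        have hle : A ≤ A' := Subgroup.le_comap_map π A
        constructor
        · intro ha
          rw [key _ ((hg a).mp (hle ha)), conj_pow, (key a (hle ha)).mp ha, mul_one, mul_inv_cancel]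
        · intro ha
          have ha' := (hg a).mpr (hle ha)
          have h := (key _ (hle ha)).mp ha
          rw [conj_pow] at h
          rw [key a ha']
          exact conj_eq_one_iff.mp h
    rw [hN, hA', ← Subgroup.comap_normalizer_eq_of_surjective _ hsurj]
    exact Subgroup.isCoatom_comap_of_surjective hsurj (isCoatom_normalizer hF hne htop)

end CfsgLib.Dickson.Thirteen
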